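import Groth.Agent.Lib.BCCrit.GlobalCrit
import Groth.Agent.Lib.BCCoh.Grauert2

/-! # Criteria at points for freeness of the cokernels -/

set_option autoImplicit false
set_option linter.style.haveILetI false
set_option backward.isDefEq.respectTransparency false
set_option maxHeartbeats 2000000
universe u

noncomputable section

open CategoryTheory CategoryTheory.Limits AlgebraicGeometry Opposite TopologicalSpace TensorProduct

namespace GrothLib.BCCrit

open GrothLib.BCCoh

section Alg

variable {A : Type u} [CommRing A] (L : CochainComplex (ModuleCat.{u} A) ℤ)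
  (hL : ∀ i, Module.Finite A (L.X i) ∧ Module.Free A (L.X i))

include hL in
/-- Vanishing at a point frees the incoming cokernel. -/
theorem good_pred_of_dRank_eq_zero {i j : ℤ} (hij : i + 1 = j) (x : PrimeSpectrum A)
    (h : CohIII.dRank L j x = 0) : Good L i x := by
  haveI := fun k => (hL k).1
  haveI := fun k => (hL k).2
  let G := Localization.AtPrime x.asIdeal
  let κ := x.asIdeal.ResidueField
  let δ := FlatCx.dBar L j
  rw [CohIII.dRank, FlatCx.finrank_homology_bcCx_eq_ker] at h
  haveI : Subsingleton (LinearMap.ker (δ.baseChange κ)) := Module.finrank_zero_iff.1 h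
  have hinj : Function.Injective (δ.baseChange κ) :=
    LinearMap.ker_eq_bot.1 (Submodule.eq_bot_of_subsingleton (p := LinearMap.ker (δ.baseChange κ)))
  let δG := δ.baseChange G
  haveI : Module.Finite G (G ⊗[A] FlatCx.cokIn L j) := inferInstance
  let eK := TensorProduct.AlgebraTensorModule.cancelBaseChange A G G κ (FlatCx.cokIn L j)
  let eX := TensorProduct.AlgebraTensorModule.cancelBaseChange A G G κ (L.X ((ComplexShape.up ℤ).next j))
  have comm : ∀ z, eX (δG.lTensor κ z) = δ.lTensor κ (eK z) := fun z => by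
    induction z using TensorProduct.induction_on with
    | zero => simp
    | add p q hp hq => simp only [map_add, hp, hq]
    | tmul k y =>
      induction y using TensorProduct.induction_on with
      | zero => simp
      | add p q hp hq => simp only [TensorProduct.tmul_add, map_add, hp, hq]
      | tmul a r => simp [eK, eX, δG]
  have hinjG : Function.Injective (δG.lTensor (IsLocalRing.ResidueField G)) := by
    refine Function.Injective.of_comp (f := eX) ?_
    rw [show ⇑eX ∘ ⇑(δG.lTensor κ) = ⇑(δ.lTensor κ) ∘ ⇑eK from funext comm]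
    exact Function.Injective.comp (show Function.Injective (δ.lTensor κ) from hinj) eK.injective
  obtain ⟨l, hl⟩ := (IsLocalRing.split_injective_iff_lTensor_residueField_injective δG).2 hinjG
  haveI : Module.Flat G (G ⊗[A] FlatCx.cokIn L j) := Module.Flat.of_retract δG l hl
  obtain ⟨e⟩ := nonempty_cokIn L hij
  exact good_of_flat L hL i x G (Module.Flat.of_linearEquiv
    (TensorProduct.AlgebraTensorModule.congr (LinearEquiv.refl G G) e).symm)

include hL in
/-- The negative degrees are free when the functors vanish there. -/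
theorem good_of_isZero_T (i : ℤ) (x : PrimeSpectrum A)
    (h : IsZero (CohIII.T L i (ModuleCat.of A x.asIdeal.ResidueField))) : Good L i x :=
  good_of_subsingleton_T L hL i x (ModuleCat.subsingleton_of_isZero h)

end Alg

variable {X S : Scheme.{u}} (f : X ⟶ S) (F : X.Modules)

/-- In every model around the point the cokernel leaving degree `p` is free. -/
def GoodAll (p : ℤ) (s : S) : Prop :=
  ∀ (V : S.Opens) (hV : IsAffineOpen V) (hs : s ∈ V) (m : Model (affBase f hV) (F.restrict (f ⁻¹ᵁ V).ι)),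
    Good m.L p (hV.primeIdealOf ⟨s, hs⟩)

variable {f F} [F.IsQuasicoherent] [IsProper f]

theorem goodAll_of_neg {p : ℤ} (hp : p < 0) (s : S) : GoodAll f F p s := fun V hV hs m =>
  good_of_isZero_T m.L m.finFree p _ (m.isZero_T_neg hp _)

theorem goodAll_of_fiberRank_eq_zero (p : ℕ) (s : S) (h : CohIII.fiberRank f F p s = 0) :
    GoodAll f F (p : ℤ) s ∧ GoodAll f F ((p : ℤ) - 1) s := by
  constructor <;> intro V hV hs m <;> rw [m.fiberRank_affine f hV F p s hs] at h
  · exact good_of_dRank_eq_zero m.L m.finFree _ _ h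
  · exact good_pred_of_dRank_eq_zero m.L m.finFree (by omega) _ h

variable [LocallyOfFinitePresentation f] (hF : CohB1.IsFP F) (hfl : FlatMod.IsFlatOver f F)

include hF hfl in
theorem exists_model (s : S) :
    ∃ (V : S.Opens) (hV : IsAffineOpen V) (_ : s ∈ V), Nonempty (Model (affBase f hV) (F.restrict (f ⁻¹ᵁ V).ι)) := by
  obtain ⟨V, hV, hs, -⟩ := exists_isAffineOpen_mem_and_subset (show s ∈ (⊤ : S.Opens) from trivial)
  exact ⟨V, hV, hs, nonempty_model_affine_fp f hV F hF hfl⟩

include hF hfl in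
theorem GoodAll.goodAt {p : ℤ} {s : S} (h : GoodAll f F p s) : GoodAt f F p s := by
  obtain ⟨V, hV, hs, ⟨m⟩⟩ := exists_model hF hfl s
  exact ⟨V, hV, hs, m, h V hV hs m⟩

include hF hfl in
/-- Vanishing fibre cohomology is vanishing of the fibre rank. -/
theorem subsingleton_fiberH_iff (p : ℕ) (s : S) :
    Subsingleton (CohIII.fiberH f F s p) ↔ CohIII.fiberRank f F p s = 0 := by
  refine ⟨fiberRank_eq_zero_of_subsingleton f F p s, fun h => ?_⟩
  obtain ⟨V, hV, hs, ⟨m⟩⟩ := exists_model hF hfl s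
  exact m.subsingleton_fiberH f hV F p s hs h

variable [HasInjectiveResolutions X.Modules]

include hF hfl in
/-- **Local freeness and constancy of the fibre rank near a point.** -/
theorem exists_free_near (p : ℕ) (s : S) (h₁ : GoodAll f F ((p : ℤ) - 1) s) (h₂ : GoodAll f F (p : ℤ) s) :
    ∃ (U : S.Opens) (n : ℕ), s ∈ U ∧ Nonempty (((Coh.Rpush f p).obj F).restrict U.ι ≅ FlatMod.freeMod (↑U) n) ∧
      ∀ y ∈ U, CohIII.fiberRank f F p y = n := by
  obtain ⟨V, hV, hs, ⟨m⟩⟩ := exists_model hF hfl s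
  exact exists_free_near_of_good m p hs (h₁ V hV hs m) (h₂ V hV hs m)

theorem goodAll_pred_of_free (p : ℕ) {s : S} (h : GoodAll f F (p : ℤ) s) {U : S.Opens} {n : ℕ} (hs : s ∈ U)
    (φ : ((Coh.Rpush f p).obj F).restrict U.ι ≅ FlatMod.freeMod (↑U) n) : GoodAll f F ((p : ℤ) - 1) s :=
  fun V hV hsV m => good_of_free m p hsV (h V hV hsV m) hs φ

include hF hfl in
/-- **Base change over an open.** -/
theorem isIso_bc_of_goodAll (p : ℕ) (U : S.Opens) (h : ∀ s ∈ U, GoodAll f F (p : ℤ) s) {S' X' : Scheme.{u}}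
    [HasInjectiveResolutions X'.Modules] {g₀ : S' ⟶ S} {f' : X' ⟶ S'} {g' : X' ⟶ X}
    {Δ : RDer.DerivedLES (Scheme.Modules.pushforward f)} {Δ' : RDer.DerivedLES (Scheme.Modules.pushforward f')}
    {E : CohCmp.SectCmp f Δ} {E' : CohCmp.SectCmp f' Δ'} (hsq : IsPullback g' f' f g₀)
    (B : CohCmp.GenBC f g₀ f' g' hsq.w E E') (hU : ∀ z : S', g₀ z ∈ U) : IsIso (B.bc p F) :=
  isIso_bc_of_goodAt p U (fun s hs => (h s hs).goodAt hF hfl) hsq B hU

include hF hfl in
/-- **Zero near the points where the fibre rank is zero.** -/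
theorem exists_zero_near (p : ℕ) (s : S) (h : CohIII.fiberRank f F p s = 0) :
    ∃ U : S.Opens, s ∈ U ∧ Nonempty (((Coh.Rpush f p).obj F).restrict U.ι ≅ FlatMod.freeMod (↑U) 0) ∧
      ∀ y ∈ U, CohIII.fiberRank f F p y = 0 := by
  obtain ⟨U, n, hsU, hφ, hn⟩ :=
    exists_free_near hF hfl p s (goodAll_of_fiberRank_eq_zero p s h).2 (goodAll_of_fiberRank_eq_zero p s h).1
  obtain rfl : n = 0 := by rw [← hn s hsU, h]
  exact ⟨U, hsU, hφ, hn⟩

include hF hfl in
/-- Freeness of the cokernels is open. -/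
theorem exists_goodAt_near (p : ℤ) (s : S) (h : GoodAll f F p s) :
    ∃ U : S.Opens, s ∈ U ∧ ∀ y ∈ U, GoodAt f F p y := by
  obtain ⟨V, hV, hs, ⟨m⟩⟩ := exists_model hF hfl s
  obtain ⟨a, ha, hflat⟩ := exists_flat_of_good m.L m.finFree _ _ (h V hV hs m)
  refine ⟨S.basicOpen a, (notMem_primeIdealOf hV hs a).1 ha, fun y hy => ?_⟩
  have hyV : y ∈ V := S.basicOpen_le a hy
  letI : Algebra Γ(S, V) (S.presheaf.stalk y) := S.presheaf.algebra_section_stalk ⟨y, hyV⟩
  haveI := isLocalization_stalk hV hyV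
  exact ⟨V, hV, hyV, m, good_of_flat m.L m.finFree _ _ (S.presheaf.stalk y)
    (hflat (S.presheaf.stalk y) ((Scheme.mem_basicOpen S a y hyV).1 hy))⟩

section Fibre

variable {s : S} [HasInjectiveResolutions (f.fiber s).Modules]
  {Δ : RDer.DerivedLES (Scheme.Modules.pushforward f)}
  {Δs : RDer.DerivedLES (Scheme.Modules.pushforward (f.fiberToSpecResidueField s))}
  {E : CohCmp.SectCmp f Δ} {Es : CohCmp.SectCmp (f.fiberToSpecResidueField s) Δs}

include hF hfl in
theorem goodAll_iff_epi
    (Bs : CohCmp.GenBC f (S.fromSpecResidueField s) (f.fiberToSpecResidueField s) (f.fiberι s) (f.fiber_fac s) E Es)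
    (p : ℕ) : GoodAll f F (p : ℤ) s ↔ Epi (Bs.bc p F) := by
  refine ⟨fun h => ?_, fun h V hV hs m => (epi_bc_fiber_iff m hs Bs p).1 h⟩
  obtain ⟨V, hV, hs, ⟨m⟩⟩ := exists_model hF hfl s
  exact (epi_bc_fiber_iff m hs Bs p).2 (h V hV hs m)

end Fibre

end GrothLib.BCCrit
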