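import Groth.Agent.Lib.BCCrit.Bc0
import Groth.Agent.Lib.BCCrit.Points
import Groth.Agent.Lib.SheafCoh.ModGroth

/-! # Cohomology and base change in degree zero -/

set_option autoImplicit false
set_option linter.style.haveILetI false
set_option backward.isDefEq.respectTransparency false
set_option maxHeartbeats 2000000
universe u

noncomputable section

open CategoryTheory CategoryTheory.Limits AlgebraicGeometry Opposite TopologicalSpace TensorProduct

namespace GrothLib.BCCrit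

open GrothLib.BCCoh

variable {X S : Scheme.{u}} {f : X ⟶ S} [IsProper f] {F : X.Modules}

section ModelBc0

variable [F.IsQuasicoherent]
  {V : S.Opens} {hV : IsAffineOpen V} (m : Model (affBase f hV) (F.restrict (f ⁻¹ᵁ V).ι))

/-- The degree-zero base change map on affine opens, through the model. -/
theorem bc0_app_iff {S' X' : Scheme.{u}} {g₀ : S' ⟶ S} {f' : X' ⟶ S'} {g' : X' ⟶ X}
    (hsq : IsPullback g' f' f g₀) {V' : S'.Opens} (hV' : IsAffineOpen V') (e : V' ≤ g₀ ⁻¹ᵁ V) :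
    letI : Algebra Γ(S, V) Γ(S', V') := (g₀.appLE V V' e).hom.toAlgebra
    (Function.Bijective ((CohBC.bc0 f g₀ f' g' hsq.w F).app V') ↔
      Function.Bijective (cmpT m.L ((0 : ℕ) : ℤ) (ModuleCat.of Γ(S, V) Γ(S', V')))) ∧
    (Function.Surjective ((CohBC.bc0 f g₀ f' g' hsq.w F).app V') ↔
      Function.Surjective (cmpT m.L ((0 : ℕ) : ℤ) (ModuleCat.of Γ(S, V) Γ(S', V')))) := by
  letI : Algebra Γ(S, V) Γ(S', V') := (g₀.appLE V V' e).hom.toAlgebra
  obtain ⟨hb, hs⟩ := bijective_bc0_app_iff hsq F hV hV' e m.U m.cover m.aff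
  exact ⟨hb.trans (bijective_cmpT_transfer m.L ((0 : ℕ) : ℤ) _ (0 : ℕ) (theta m 0) _).symm,
    hs.trans (surjective_cmpT_transfer m.L ((0 : ℕ) : ℤ) _ (0 : ℕ) (theta m 0) _).symm⟩

include m in
/-- Near a point where the cokernel is free, base change in degree zero is an isomorphism. -/
theorem exists_isIso_bc0_of_good {s : S} (hs : s ∈ V) (h : Good m.L ((0 : ℕ) : ℤ) (hV.primeIdealOf ⟨s, hs⟩)) :
    ∃ a : Γ(S, V), s ∈ S.basicOpen a ∧
      ∀ {S' X' : Scheme.{u}} {g₀ : S' ⟶ S} {f' : X' ⟶ S'} {g' : X' ⟶ X} (hsq : IsPullback g' f' f g₀)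
        {V' : S'.Opens}, IsAffineOpen V' →
        V' ≤ g₀ ⁻¹ᵁ (S.basicOpen a) → Function.Bijective ((CohBC.bc0 f g₀ f' g' hsq.w F).app V') := by
  obtain ⟨a, ha, hb⟩ := exists_bijective_of_good m.L m.finFree ((0 : ℕ) : ℤ) _ h
  refine ⟨a, (notMem_primeIdealOf hV hs a).1 ha, ?_⟩
  intro S' X' g₀ f' g' hsq V' hV' hle
  have e : V' ≤ g₀ ⁻¹ᵁ V := hle.trans (g₀.preimage_mono (S.basicOpen_le a))
  letI : Algebra Γ(S, V) Γ(S', V') := (g₀.appLE V V' e).hom.toAlgebra
  exact (bc0_app_iff m hsq hV' e).1.2 (hb Γ(S', V') (isUnit_appLE g₀ e a hle))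

include m in
/-- **Surjectivity of the degree-zero fibre base change map is freeness of the cokernel.** -/
theorem epi_bc0_fiber_iff {s : S} (hs : s ∈ V) :
    Epi (CohBC.bc0 f (S.fromSpecResidueField s) (f.fiberToSpecResidueField s) (f.fiberι s) (f.fiber_fac s) F) ↔
      Good m.L ((0 : ℕ) : ℤ) (hV.primeIdealOf ⟨s, hs⟩) := by
  let κ := S.residueField s
  let q := S.fromSpecResidueField s
  let T := Spec κ
  haveI : Subsingleton T := inferInstanceAs (Subsingleton (PrimeSpectrum κ))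
  let z : T := IsLocalRing.closedPoint κ
  have hsq : IsPullback (f.fiberι s) (f.fiberToSpecResidueField s) f q := IsPullback.of_hasPullback _ _
  have hq : ∀ w, q w = s := Scheme.fromSpecResidueField_apply s
  have e : (⊤ : T.Opens) ≤ q ⁻¹ᵁ V := fun w _ => by
    show q w ∈ V
    rw [hq w]
    exact hs
  letI : Algebra Γ(S, V) Γ(T, ⊤) := (q.appLE V ⊤ e).hom.toAlgebra
  refine (epi_iff_surjective (CohBC.bc0 f q (f.fiberToSpecResidueField s) (f.fiberι s) hsq.w F) z).trans
    ((bc0_app_iff m hsq (isAffineOpen_top T) e).2.trans ?_)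
  haveI : Nontrivial Γ(T, ⊤) := RingHom.domain_nontrivial (Scheme.ΓSpecIso κ).hom.hom
  refine (good_iff_surjective_of_residue m.L m.finFree ((0 : ℕ) : ℤ) _ Γ(T, ⊤) (fun a ha => ?_) fun a ha => ?_).symm
  · refine isUnit_appLE q e a fun w _ => ?_
    show q w ∈ S.basicOpen a
    rw [hq w]
    exact (notMem_primeIdealOf hV hs a).1 ha
  · by_contra h0
    let iso := Scheme.ΓSpecIso κ
    have h1 : IsUnit (iso.hom.hom ((q.appLE V ⊤ e).hom a)) := isUnit_iff_ne_zero.2 fun h =>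
      h0 ((ConcreteCategory.bijective_of_isIso iso.hom).1 (h.trans (map_zero iso.hom.hom).symm))
    have h2 : IsUnit ((q.appLE V ⊤ e).hom a) := by
      have := h1.map iso.inv.hom
      rwa [show iso.inv.hom (iso.hom.hom ((q.appLE V ⊤ e).hom a)) = (q.appLE V ⊤ e).hom a from
        iso.hom_inv_id_apply _] at this
    have h3 : z ∈ T.basicOpen ((q.appLE V ⊤ e).hom a) :=
      (Scheme.mem_basicOpen T ((q.appLE V ⊤ e).hom a) z trivial).2 (h2.map (T.presheaf.germ ⊤ z trivial).hom)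
    rw [Scheme.basicOpen_appLE] at h3
    have h4 : q z ∈ S.basicOpen a := h3.2
    rw [hq z] at h4
    exact (notMem_primeIdealOf hV hs a).2 h4 ha

end ModelBc0

variable [Coh.IsQCoh F] [LocallyOfFinitePresentation f] (hF : CohB1.IsFP F) (hfl : FlatMod.IsFlatOver f F)

include hF hfl in
/-- Freeness of the cokernel leaving degree zero is surjectivity of the fibre map. -/
theorem goodAll_iff_epi0 (s : S) :
    GoodAll f F ((0 : ℕ) : ℤ) s ↔
      Epi (CohBC.bc0 f (S.fromSpecResidueField s) (f.fiberToSpecResidueField s) (f.fiberι s) (f.fiber_fac s) F) := by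
  refine ⟨fun h => ?_, fun h V hV hs m => (epi_bc0_fiber_iff m hs).1 h⟩
  obtain ⟨V, hV, hs, ⟨m⟩⟩ := exists_model hF hfl s
  exact (epi_bc0_fiber_iff m hs).2 (h V hV hs m)

include hF hfl in
/-- **Base change in degree zero over an open.** -/
theorem isIso_bc0_of_goodAll (U : S.Opens) (h : ∀ s ∈ U, GoodAll f F ((0 : ℕ) : ℤ) s) {S' X' : Scheme.{u}}
    {g₀ : S' ⟶ S} {f' : X' ⟶ S'} {g' : X' ⟶ X} (hsq : IsPullback g' f' f g₀) (hU : ∀ z : S', g₀ z ∈ U) :
    IsIso (CohBC.bc0 f g₀ f' g' hsq.w F) := by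
  haveI : IsProper f' := MorphismProperty.of_isPullback (P := @IsProper) hsq ‹_›
  haveI : F.IsQuasicoherent := ‹Coh.IsQCoh F›
  haveI : ((Scheme.Modules.pullback g').obj F).IsQuasicoherent := FittSheaf.isQuasicoherent_pullback g' F
  haveI : ((Scheme.Modules.pushforward f).obj F).IsQuasicoherent := QCoh.isQuasicoherent_pushforward f F
  haveI : ((Scheme.Modules.pullback g₀).obj ((Scheme.Modules.pushforward f).obj F)).IsQuasicoherent :=
    FittSheaf.isQuasicoherent_pullback g₀ _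
  haveI : ((Scheme.Modules.pushforward f').obj ((Scheme.Modules.pullback g').obj F)).IsQuasicoherent :=
    QCoh.isQuasicoherent_pushforward f' _
  have hch : ∀ z : S', ∃ V' : S'.Opens, z ∈ V' ∧ IsAffineOpen V' ∧
      Function.Bijective ((CohBC.bc0 f g₀ f' g' hsq.w F).app V') := fun z => by
    obtain ⟨V, hV, hs, m, hm⟩ := (h (g₀ z) (hU z)).goodAt hF hfl
    obtain ⟨a, ha, hb⟩ := exists_isIso_bc0_of_good m hs hm
    obtain ⟨V', hV', hz, hle⟩ := exists_isAffineOpen_mem_and_subset (show z ∈ g₀ ⁻¹ᵁ S.basicOpen a from ha)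
    exact ⟨V', hz, hV', hb hsq hV' hle⟩
  choose W hzW hW hb using hch
  exact QCoh.isIso_of_bijective_on_cover (CohBC.bc0 f g₀ f' g' hsq.w F) W
    (top_le_iff.1 fun z _ => Opens.mem_iSup.2 ⟨z, hzW z⟩) hW hb

include hF hfl in
/-- **Local freeness of the direct image near a point.** -/
theorem exists_free_near0 (s : S) (h : GoodAll f F ((0 : ℕ) : ℤ) s) :
    ∃ (U : S.Opens) (n : ℕ), s ∈ U ∧
      Nonempty (((Scheme.Modules.pushforward f).obj F).restrict U.ι ≅ FlatMod.freeMod (↑U) n) ∧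
      ∀ y ∈ U, CohIII.fiberRank f F 0 y = n := by
  haveI : EnoughInjectives X.Modules := SheafCoh.enoughInjectives_sheafOfModules X.ringCatSheaf
  obtain ⟨U, n, hs, ⟨φ⟩, hn⟩ := exists_free_near hF hfl 0 s (goodAll_of_neg (by norm_num) s) h
  exact ⟨U, n, hs, ⟨(Scheme.Modules.restrictFunctor U.ι).mapIso
    ((Scheme.Modules.pushforward f).rightDerivedZeroIsoSelf.app F).symm ≪≫ φ⟩, hn⟩

include hF hfl in
/-- **Finite local freeness of the direct image over an open.** -/
theorem isFinLocFree_push_of_goodAll (U : S.Opens) (h : ∀ s ∈ U, GoodAll f F ((0 : ℕ) : ℤ) s) :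
    FlatMod.IsFinLocFree (((Scheme.Modules.pushforward f).obj F).restrict U.ι) :=
  isFinLocFree_of_free_near _ U fun y hy => by
    obtain ⟨W, n, hyW, hφ, -⟩ := exists_free_near0 hF hfl y (h y hy)
    exact ⟨W, n, hyW, hφ⟩

include hF hfl in
/-- In degree zero goodness does not depend on the model, and is open. -/
theorem exists_goodAll0_near (s : S) (h : GoodAll f F ((0 : ℕ) : ℤ) s) :
    ∃ U : S.Opens, s ∈ U ∧ ∀ y ∈ U, GoodAll f F ((0 : ℕ) : ℤ) y := by
  obtain ⟨U, hs, hU⟩ := exists_goodAt_near hF hfl ((0 : ℕ) : ℤ) s h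
  refine ⟨U, hs, fun y hy => (goodAll_iff_epi0 hF hfl y).2 ?_⟩
  obtain ⟨V, hV, hyV, m, hm⟩ := hU y hy
  exact (epi_bc0_fiber_iff m hyV).2 hm

end GrothLib.BCCrit
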