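import Groth.Agent.Lib.BCCrit.Points
import Groth.Agent.Lib.GVanish.Main

/-! # Vanishing of higher direct images beyond the fibre dimension -/

set_option autoImplicit false
set_option linter.style.haveILetI false
set_option backward.isDefEq.respectTransparency false
set_option maxHeartbeats 1000000
universe u

noncomputable section

open CategoryTheory CategoryTheory.Limits AlgebraicGeometry Opposite TopologicalSpace

namespace GrothLib.BCCrit

open GrothLib.BCCoh

variable {X S : Scheme.{u}} {f : X ⟶ S} [IsProper f] {F : X.Modules} [Coh.IsQCoh F]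

theorem noetherianSpace_fiber (s : S) : NoetherianSpace ↥(f.fiber s) := by
  haveI : IsProper (f.fiberToSpecResidueField s) := inferInstanceAs (IsProper (pullback.snd f _))
  haveI : IsLocallyNoetherian (f.fiber s) := LocallyOfFiniteType.isLocallyNoetherian (f.fiberToSpecResidueField s)
  haveI : CompactSpace ↥(f.fiber s) := QuasiCompact.compactSpace_of_compactSpace (f.fiberToSpecResidueField s)
  haveI : IsNoetherian (f.fiber s) := {}
  infer_instance

/-- The fibre cohomology vanishes beyond the dimension of the fibre. -/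
theorem subsingleton_fiberH_of_dim_lt (s : S) (d p : ℕ) (hd : topologicalKrullDim ↥(f.fiber s) ≤ d) (hp : d < p) :
    Subsingleton (CohIII.fiberH f F s p) := by
  haveI : NoetherianSpace (f.fiber s).toTopCat := noetherianSpace_fiber (f := f) s
  exact GVanish.subsingleton_H_of_krullDim_le (X := (f.fiber s).toTopCat) d hd
    (Coh.toAb (CohIII.fiberMod f F s)) p hp

theorem fiberRank_eq_zero_of_dim_lt (s : S) (d p : ℕ) (hd : topologicalKrullDim ↥(f.fiber s) ≤ d) (hp : d < p) :
    CohIII.fiberRank f F p s = 0 :=
  fiberRank_eq_zero_of_subsingleton f F p s (subsingleton_fiberH_of_dim_lt s d p hd hp)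

/-- A module free of rank zero near every point vanishes. -/
theorem isZero_of_free_zero (N : S.Modules)
    (h : ∀ y : S, ∃ W : S.Opens, y ∈ W ∧ Nonempty (N.restrict W.ι ≅ FlatMod.freeMod (↑W) 0)) : IsZero N := by
  rw [OX.isZero_iff]
  intro y
  obtain ⟨W, hyW, ⟨φ⟩⟩ := h y
  obtain ⟨e, he⟩ := FinCov.exists_frame_of_iso φ
  have hy' : y ∈ W.ι ''ᵁ ⊤ := by rw [Scheme.Opens.ι_image_top]; exact hyW
  haveI : Subsingleton (N.presheaf.stalk y) := (Ref1.stalk_of_isFrame he y hy').2.subsingleton
  exact @ModuleCat.isZero_of_subsingleton _ _ _ ‹Subsingleton (N.presheaf.stalk y)›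

end GrothLib.BCCrit
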