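import Groth.Agent.Lib.ModDesc.Approx
import Groth.Agent.Lib.BCCoh.BaseTransfer
import Groth.Agent.Lib.BCCoh.CohFlatNear
import Groth.Agent.Lib.FittSheaf.PullbackFP

/-! # Finite free models over affine opens of an arbitrary base -/

set_option autoImplicit false
set_option linter.style.haveILetI false
set_option maxHeartbeats 1000000
universe u

open CategoryTheory CategoryTheory.Limits AlgebraicGeometry Opposite TopologicalSpace

namespace GrothLib.BCCrit

open GrothLib.BCCoh

theorem isFP_restrict {X : Scheme.{u}} (W : X.Opens) (F : X.Modules) [F.IsQuasicoherent] (hF : CohB1.IsFP F) :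
    CohB1.IsFP (F.restrict W.ι) :=
  (SheafOfModules.isFinitePresentation (W : Scheme.{u}).ringCatSheaf).prop_of_iso
    ((Scheme.Modules.restrictFunctorIsoPullback W.ι).app F).symm (FittSheaf.isFP_pullback W.ι F hF)

/-- **Models exist over an affine base, without Noetherian hypotheses.** -/
theorem nonempty_model_fp {A : Type u} [CommRing A] {X : Scheme.{u}} (f : X ⟶ Spec (CommRingCat.of A))
    [IsProper f] [LocallyOfFinitePresentation f] (F : X.Modules) [F.IsQuasicoherent] (hF : CohB1.IsFP F)
    (hfl : FlatMod.IsFlatOver f F) : Nonempty (Model f F) := by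
  obtain ⟨A₀, hA₀, X₀, f₀, g, F₀, hp, hF₀, hfl₀, H, ⟨e⟩⟩ :=
    ModDesc.exists_noetherian_approximation A f F hF hfl
  haveI := hA₀
  haveI := hp
  haveI := hF₀.1
  obtain ⟨m⟩ := nonempty_model f₀ F₀ hF₀ hfl₀
  obtain ⟨m', -⟩ := m.exists_baseChange (algebraMap A₀ A) f g H hF₀.1
  haveI : ((Scheme.Modules.pullback g).obj F₀).IsQuasicoherent := FittSheaf.isQuasicoherent_pullback g F₀
  obtain ⟨m'', -⟩ := m'.exists_ofIso e
  exact ⟨m''⟩

variable {X Y : Scheme.{u}} (f : X ⟶ Y) {V : Y.Opens} (hV : IsAffineOpen V) (F : X.Modules) [F.IsQuasicoherent]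

/-- Models over every affine open of the base. -/
theorem nonempty_model_affine_fp [IsProper f] [LocallyOfFinitePresentation f] (hF : CohB1.IsFP F)
    (hfl : FlatMod.IsFlatOver f F) : Nonempty (Model (affBase f hV) (F.restrict (f ⁻¹ᵁ V).ι)) := by
  haveI : IsProper (f ∣_ V) := IsZariskiLocalAtTarget.restrict ‹IsProper f› V
  haveI : LocallyOfFinitePresentation (f ∣_ V) := IsZariskiLocalAtTarget.restrict ‹LocallyOfFinitePresentation f› V
  exact nonempty_model_fp (A := Γ(Y, V)) (affBase f hV) (F.restrict (f ⁻¹ᵁ V).ι) (isFP_restrict _ F hF)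
    (isFlatOver_affBase f hV F hfl)

end GrothLib.BCCrit
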