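import Groth.Agent.Lib.BCCoh.Cmp
import Groth.Agent.Lib.BCCoh.CohFlatNear
import Groth.Agent.Lib.FlatCx.Bc
import Groth.Agent.Lib.FlatCx.Up

/-! # The points where an outgoing cokernel of a finite free complex is free -/

set_option autoImplicit false
set_option linter.style.haveILetI false
set_option maxHeartbeats 1000000
universe u

noncomputable section

open CategoryTheory CategoryTheory.Limits TensorProduct

namespace GrothLib.BCCrit

open GrothLib.BCCoh

variable {A : Type u} [CommRing A] (L : CochainComplex (ModuleCat.{u} A) ℤ)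

/-- The cokernel of the differential leaving degree `i`. -/
abbrev Cq (i : ℤ) : Type u := L.X (i + 1) ⧸ LinearMap.range (L.d i (i + 1)).hom

/-- The cokernel of the differential leaving degree `i` is free at the point. -/
def Good (i : ℤ) (x : PrimeSpectrum A) : Prop := x ∈ Module.freeLocus A (Cq L i)

theorem nonempty_coker_next (i : ℤ) :
    Nonempty ((L.X ((ComplexShape.up ℤ).next i) ⧸ LinearMap.range (L.d i ((ComplexShape.up ℤ).next i)).hom) ≃ₗ[A]
      Cq L i) := by
  generalize hj : (ComplexShape.up ℤ).next i = j
  obtain rfl : j = i + 1 := hj ▸ CochainComplex.next ℤ i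
  exact ⟨LinearEquiv.refl A _⟩

theorem nonempty_cokIn {i j : ℤ} (h : i + 1 = j) : Nonempty (FlatCx.cokIn L j ≃ₗ[A] Cq L i) := by
  subst h
  have key : ∀ k : ℤ, k = i → Nonempty ((L.X (i + 1) ⧸ LinearMap.range (L.d k (i + 1)).hom) ≃ₗ[A] Cq L i) := by
    rintro k rfl
    exact ⟨LinearEquiv.refl A _⟩
  exact key _ (by simp)

variable (hL : ∀ i, Module.Finite A (L.X i) ∧ Module.Free A (L.X i))

include hL in
theorem finitePresentation_Cq (i : ℤ) : Module.FinitePresentation A (Cq L i) := by
  haveI := (hL i).1
  haveI := (hL (i + 1)).1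
  haveI := (hL (i + 1)).2
  haveI := Module.finitePresentation_of_projective A (L.X (i + 1))
  exact Module.finitePresentation_of_surjective _ (Submodule.mkQ_surjective _)
    (by rw [Submodule.ker_mkQ, LinearMap.range_eq_map]; exact (Module.Finite.fg_top).map _)

include hL in
theorem isOpen_good (i : ℤ) : IsOpen {x | Good L i x} :=
  haveI := finitePresentation_Cq L hL i
  Module.isOpen_freeLocus

include hL in
/-- Surjectivity of the comparison at a residue field is freeness of the outgoing cokernel. -/
theorem good_of_surjective (i : ℤ) (x : PrimeSpectrum A)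
    (h : Function.Surjective (cmpT L i (ModuleCat.of A x.asIdeal.ResidueField))) : Good L i x := by
  haveI := fun k => (hL k).1
  haveI := fun k => (hL k).2
  obtain ⟨e⟩ := nonempty_coker_next L i
  unfold Good
  rw [← Module.freeLocus_congr e]
  exact mem_freeLocus_of_surjective L i x
    ((surjective_cmpT_iff L i (ModuleCat.of A x.asIdeal.ResidueField)).1 h)

include hL in
/-- Freeness of the outgoing cokernel makes it flat near the point. -/
theorem exists_flat_of_good (i : ℤ) (x : PrimeSpectrum A) (h : Good L i x) :
    ∃ g : A, g ∉ x.asIdeal ∧ ∀ (G : Type u) [CommRing G] [Algebra A G], IsUnit (algebraMap A G g) →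
      Module.Flat G (G ⊗[A] Cq L i) := by
  haveI := finitePresentation_Cq L hL i
  obtain ⟨g, hg, hflat⟩ := exists_flat_away (Cq L i) x h
  refine ⟨g, hg, fun G _ _ hG => ?_⟩
  letI : Algebra (Localization.Away g) G := (IsLocalization.Away.lift g hG).toAlgebra
  haveI : IsScalarTower A (Localization.Away g) G :=
    IsScalarTower.of_algebraMap_eq fun a => (IsLocalization.Away.lift_eq g hG a).symm
  haveI := hflat
  exact Module.Flat.of_linearEquiv
    (TensorProduct.AlgebraTensorModule.cancelBaseChange A (Localization.Away g) G G (Cq L i)).symm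

include hL in
/-- Freeness of the outgoing cokernel gives base change near the point. -/
theorem exists_bijective_of_good (i : ℤ) (x : PrimeSpectrum A) (h : Good L i x) :
    ∃ g : A, g ∉ x.asIdeal ∧ ∀ (B : Type u) [CommRing B] [Algebra A B], IsUnit (algebraMap A B g) →
      Function.Bijective (cmpT L i (ModuleCat.of A B)) := by
  haveI : ∀ k, Module.Flat A (L.X k) := fun k => haveI := (hL k).2; inferInstance
  obtain ⟨g, hg, hflat⟩ := exists_flat_of_good L hL i x h
  refine ⟨g, hg, fun B _ _ hB => ?_⟩
  obtain ⟨e⟩ := nonempty_coker_next L i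
  haveI : Module.Flat A (Localization.Away g) := IsLocalization.flat _ (Submonoid.powers g)
  haveI := hflat (Localization.Away g) (IsLocalization.Away.algebraMap_isUnit g)
  letI : Algebra (Localization.Away g) B := (IsLocalization.Away.lift g hB).toAlgebra
  haveI : IsScalarTower A (Localization.Away g) B :=
    IsScalarTower.of_algebraMap_eq fun a => (IsLocalization.Away.lift_eq g hB a).symm
  exact (bijective_cmpT_iff L i (ModuleCat.of A B)).2 (bijective_kerCmp_of_flat_tensor L i (Localization.Away g)
    (Module.Flat.of_linearEquiv (TensorProduct.AlgebraTensorModule.congr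
      (LinearEquiv.refl (Localization.Away g) (Localization.Away g)) e)) B)

theorem isUnit_algebraMap_residueField {g : A} {x : PrimeSpectrum A} (hg : g ∉ x.asIdeal) :
    IsUnit (algebraMap A x.asIdeal.ResidueField g) :=
  isUnit_iff_ne_zero.2 fun h => hg (Ideal.algebraMap_residueField_eq_zero.1 h)

include hL in
theorem bijective_of_good (i : ℤ) (x : PrimeSpectrum A) (h : Good L i x) :
    Function.Bijective (cmpT L i (ModuleCat.of A x.asIdeal.ResidueField)) := by
  obtain ⟨g, hg, hb⟩ := exists_bijective_of_good L hL i x h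
  exact hb x.asIdeal.ResidueField (isUnit_algebraMap_residueField hg)

include hL in
theorem good_iff_surjective (i : ℤ) (x : PrimeSpectrum A) :
    Good L i x ↔ Function.Surjective (cmpT L i (ModuleCat.of A x.asIdeal.ResidueField)) :=
  ⟨fun h => (bijective_of_good L hL i x h).2, good_of_surjective L hL i x⟩

include hL in
/-- Vanishing at the point. -/
theorem good_of_subsingleton_T (i : ℤ) (x : PrimeSpectrum A)
    (h : Subsingleton (CohIII.T L i (ModuleCat.of A x.asIdeal.ResidueField))) : Good L i x :=
  good_of_surjective L hL i x fun y => ⟨0, @Subsingleton.elim _ h _ _⟩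

include hL in
/-- Above the complex everything is free. -/
theorem good_of_isZero_X (i : ℤ) (x : PrimeSpectrum A) (h : IsZero (L.X (i + 1))) : Good L i x := by
  haveI : Subsingleton (L.X (i + 1)) := ModuleCat.subsingleton_of_isZero h
  haveI : Subsingleton (Cq L i) := inferInstance
  haveI := finitePresentation_Cq L hL i
  unfold Good
  rw [Module.freeLocus_eq_univ]
  trivial

include hL in
theorem good_of_dRank_eq_zero (i : ℤ) (x : PrimeSpectrum A) (h : CohIII.dRank L i x = 0) : Good L i x := by
  haveI := fun k => (hL k).1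
  let κ := x.asIdeal.ResidueField
  rw [CohIII.dRank, FlatCx.finrank_homology_bcCx_eq_ker] at h
  haveI : Subsingleton (LinearMap.ker ((FlatCx.dBar L i).baseChange κ)) := Module.finrank_zero_iff.1 h
  have hinj : Function.Injective ((FlatCx.dBar L i).rTensor κ) := by
    rw [← LinearMap.lTensor_inj_iff_rTensor_inj]
    have hbot := Submodule.eq_bot_of_subsingleton (p := LinearMap.ker ((FlatCx.dBar L i).baseChange κ))
    exact (LinearMap.ker_eq_bot.1 hbot : Function.Injective ((FlatCx.dBar L i).baseChange κ))
  refine good_of_subsingleton_T L hL i x ?_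
  exact ModuleCat.subsingleton_of_isZero ((FlatCx.isZero_T_iff L i (ModuleCat.of A κ)).2 hinj)

include hL in
/-- The dimension at a point where the outgoing cokernel is free. -/
theorem dRank_eq_of_good (i : ℤ) (x : PrimeSpectrum A) (h : Good L i x) :
    CohIII.dRank L i x = Module.finrank x.asIdeal.ResidueField
      (x.asIdeal.ResidueField ⊗[A] CohIII.T L i (ModuleCat.of A A)) := by
  let κ := x.asIdeal.ResidueField
  haveI := fun k => (hL k).2
  have hb := (bijective_cmpT_iff L i (ModuleCat.of A κ)).1 (bijective_of_good L hL i x h)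
  have hbc : Function.Bijective (FlatCx.kerCmpBC L κ i) := by
    let δ := FlatCx.dBar L i
    have hc : ∀ z : κ ⊗[A] LinearMap.ker δ, TensorProduct.comm A κ _ (FlatCx.kerCmpBC L κ i z).1 =
        (FlatCx.kerCmp L i κ (TensorProduct.comm A κ _ z)).1 := fun z => by
      induction z using TensorProduct.induction_on with
      | zero => simp
      | tmul a b => rfl
      | add p q hp hq => simp only [map_add, Submodule.coe_add, hp, hq]
    refine ⟨fun a b hab => (TensorProduct.comm A κ _).injective (hb.1 (Subtype.ext ?_)), ?_⟩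
    · rw [← hc, ← hc, hab]
    · rintro ⟨y, hy⟩
      have hy' : TensorProduct.comm A κ _ y ∈ LinearMap.ker (δ.rTensor κ) := by
        have : ∀ y, δ.rTensor κ (TensorProduct.comm A κ _ y) = TensorProduct.comm A κ _ (δ.lTensor κ y) := fun y => by
          induction y using TensorProduct.induction_on with
          | zero => simp
          | tmul a b => rfl
          | add p q hp hq => simp only [map_add, hp, hq]
        rw [LinearMap.mem_ker, this, show δ.lTensor κ y = 0 from hy, map_zero]
      obtain ⟨z, hz⟩ := hb.2 ⟨_, hy'⟩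
      refine ⟨(TensorProduct.comm A κ _).symm z, Subtype.ext ((TensorProduct.comm A κ _).injective ?_)⟩
      rw [hc, LinearEquiv.apply_symm_apply, hz]
  rw [CohIII.dRank, FlatCx.finrank_homology_bcCx_eq_ker, ← (LinearEquiv.ofBijective _ hbc).finrank_eq]
  exact (TensorProduct.AlgebraTensorModule.congr (LinearEquiv.refl κ κ) (FlatCx.TUnitKerEquiv L i)).finrank_eq.symm

include hL in
/-- Freeness at a point from flatness at its local ring. -/
theorem good_of_flat (i : ℤ) (x : PrimeSpectrum A) (G : Type u) [CommRing G] [Algebra A G]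
    [IsLocalization.AtPrime G x.asIdeal] (h : Module.Flat G (G ⊗[A] Cq L i)) : Good L i x := by
  haveI := finitePresentation_Cq L hL i
  haveI : IsLocalRing G := IsLocalization.AtPrime.isLocalRing G x.asIdeal
  haveI := h
  exact (Module.mem_freeLocus_iff_tensor x G).2 Module.free_of_flat_of_isLocalRing

include hL in
/-- Over a flat algebra on which the next cokernel is flat, flatness of the cokernel and of the
homology agree. -/
theorem flat_T_iff (i : ℤ) (G : Type u) [CommRing G] [Algebra A G] [Module.Flat A G]
    (hn : Module.Flat G (G ⊗[A] Cq L (i + 1))) :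
    (Module.Flat G (G ⊗[A] CohIII.T L (i + 1) (ModuleCat.of A A)) ↔ Module.Flat G (G ⊗[A] Cq L i)) ∧
      (Module.Flat G (G ⊗[A] Cq L i) →
        Module.FinitePresentation G (G ⊗[A] CohIII.T L (i + 1) (ModuleCat.of A A))) := by
  haveI := fun k => (hL k).1
  haveI := fun k => (hL k).2
  let δ := FlatCx.dBar L (i + 1)
  let δG := δ.baseChange G
  obtain ⟨eC⟩ := nonempty_cokIn L (rfl : i + 1 = i + 1)
  obtain ⟨eK⟩ := nonempty_ker_baseChange (B := G) δ
  obtain ⟨eN⟩ := nonempty_coker_next L (i + 1)
  let l : G ⊗[A] CohIII.T L (i + 1) (ModuleCat.of A A) ≃ₗ[G] LinearMap.ker δG :=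
    (TensorProduct.AlgebraTensorModule.congr (LinearEquiv.refl G G) (FlatCx.TUnitKerEquiv L (i + 1))).trans eK
  let c : (G ⊗[A] FlatCx.cokIn L (i + 1)) ≃ₗ[G] G ⊗[A] Cq L i :=
    TensorProduct.AlgebraTensorModule.congr (LinearEquiv.refl G G) eC
  let q : ((G ⊗[A] L.X ((ComplexShape.up ℤ).next (i + 1))) ⧸ LinearMap.range δG) ≃ₗ[G] G ⊗[A] Cq L (i + 1) :=
    (FlatCx.cokerBaseChange δ G).trans (TensorProduct.AlgebraTensorModule.congr (LinearEquiv.refl G G)
      ((Submodule.quotEquivOfEq _ _ (FlatCx.range_dBar L (i + 1))).trans eN))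
  haveI := hn
  haveI hq : Module.Flat G ((G ⊗[A] L.X ((ComplexShape.up ℤ).next (i + 1))) ⧸ LinearMap.range δG) :=
    Module.Flat.of_linearEquiv q
  haveI : Module.Flat G (LinearMap.range δG) := FlatCx.flat_of_flat_quotient _
  refine ⟨⟨fun h => ?_, fun h => ?_⟩, fun h => ?_⟩
  · haveI := h
    haveI : Module.Flat G (LinearMap.ker δG) := Module.Flat.of_linearEquiv l.symm
    haveI := FlatCx.flat_of_flat_ker_range δG
    exact Module.Flat.of_linearEquiv c.symm
  · haveI := h
    haveI : Module.Flat G (G ⊗[A] FlatCx.cokIn L (i + 1)) := Module.Flat.of_linearEquiv c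
    haveI := FlatCx.flat_ker_of_flat_range δG
    exact Module.Flat.of_linearEquiv l
  · haveI := h
    haveI := finitePresentation_Cq L hL i
    haveI := finitePresentation_Cq L hL (i + 1)
    haveI : Module.Projective G (G ⊗[A] Cq L (i + 1)) := Module.Flat.projective_of_finitePresentation
    haveI : Module.Projective G ((G ⊗[A] L.X ((ComplexShape.up ℤ).next (i + 1))) ⧸ LinearMap.range δG) :=
      Module.Projective.of_equiv q.symm
    haveI : Module.Projective G (G ⊗[A] L.X ((ComplexShape.up ℤ).next (i + 1))) := inferInstance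
    haveI := FlatCx.projective_range_of_projective_coker δG
    haveI : Module.Projective G (G ⊗[A] Cq L i) := Module.Flat.projective_of_finitePresentation
    haveI : Module.Projective G (G ⊗[A] FlatCx.cokIn L (i + 1)) := Module.Projective.of_equiv c.symm
    obtain ⟨s, hs⟩ := Module.projective_lifting_property δG.rangeRestrict LinearMap.id δG.surjective_rangeRestrict
    have hs' : ∀ y, δG.rangeRestrict (s y) = y := LinearMap.congr_fun hs
    let r : (G ⊗[A] FlatCx.cokIn L (i + 1)) →ₗ[G] LinearMap.ker δG :=
      LinearMap.codRestrict _ (LinearMap.id - s ∘ₗ δG.rangeRestrict) fun z => by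
        rw [LinearMap.mem_ker, LinearMap.sub_apply, map_sub, sub_eq_zero]
        exact (congrArg Subtype.val (hs' (δG.rangeRestrict z))).symm
    have hr : r ∘ₗ (LinearMap.ker δG).subtype = LinearMap.id := LinearMap.ext fun z => Subtype.ext (by
      have : δG.rangeRestrict z.1 = 0 := Subtype.ext z.2
      simp [r, this])
    haveI : Module.Projective G (LinearMap.ker δG) := Module.Projective.of_split _ _ hr
    haveI : Module.Finite G (LinearMap.ker δG) :=
      Module.Finite.of_surjective r fun z => ⟨_, LinearMap.congr_fun hr z⟩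
    haveI : Module.Projective G (G ⊗[A] CohIII.T L (i + 1) (ModuleCat.of A A)) := Module.Projective.of_equiv l.symm
    haveI : Module.Finite G (G ⊗[A] CohIII.T L (i + 1) (ModuleCat.of A A)) := Module.Finite.equiv l.symm
    exact Module.finitePresentation_of_projective G _

end GrothLib.BCCrit
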