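import Groth.Agent.Lib.BCCrit.Points
import Mathlib.RingTheory.LocalProperties.Reduced

/-! # Locally constant fibre dimension over a reduced base -/

set_option autoImplicit false
set_option linter.style.haveILetI false
set_option backward.isDefEq.respectTransparency false
set_option maxHeartbeats 2000000
universe u

noncomputable section

open CategoryTheory CategoryTheory.Limits AlgebraicGeometry TensorProduct

namespace GrothLib.BCCrit

open GrothLib.BCCoh

variable {A : Type u} [CommRing A]

/-- Fibre dimensions over a field extension of a residue field. -/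
theorem finrank_tensor_field (M : Type u) [AddCommGroup M] [Module A M] (x : PrimeSpectrum A)
    (K : Type u) [Field K] [Algebra A K] (h : RingHom.ker (algebraMap A K) = x.asIdeal) :
    Module.finrank K (K ⊗[A] M) =
      Module.finrank x.asIdeal.ResidueField (x.asIdeal.ResidueField ⊗[A] M) := by
  let κ := x.asIdeal.ResidueField
  let ρ : κ →+* K := Ideal.ResidueField.lift x.asIdeal (algebraMap A K) h.ge
    (fun a ha => isUnit_iff_ne_zero.2 fun h0 => ha (h.le h0))
  letI : Algebra κ K := ρ.toAlgebra
  haveI : IsScalarTower A κ K := IsScalarTower.of_algebraMap_eq fun a =>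
    (Ideal.ResidueField.lift_algebraMap x.asIdeal (algebraMap A K) _ _ a).symm
  rw [← (TensorProduct.AlgebraTensorModule.cancelBaseChange A κ K K M).finrank_eq, Module.finrank_baseChange]

/-- Locally constant fibre dimension of a finitely presented module over a reduced ring. -/
theorem mem_freeLocus_of_eventually_eq [IsReduced A] (M : Type u) [AddCommGroup M] [Module A M]
    [Module.FinitePresentation A M] (x : PrimeSpectrum A)
    (h : ∀ᶠ y in nhds x, Module.finrank y.asIdeal.ResidueField (y.asIdeal.ResidueField ⊗[A] M) =
      Module.finrank x.asIdeal.ResidueField (x.asIdeal.ResidueField ⊗[A] M)) :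
    x ∈ Module.freeLocus A M := by
  let G := Localization.AtPrime x.asIdeal
  haveI : IsReduced G := inferInstance
  rw [Module.mem_freeLocus_iff_tensor x G]
  refine FlatCx.free_of_finrank_eq_minimal (G ⊗[A] M) fun q _ => ?_
  have key : ∀ z : PrimeSpectrum G,
      Module.finrank z.asIdeal.ResidueField (z.asIdeal.ResidueField ⊗[G] (G ⊗[A] M)) =
        Module.finrank x.asIdeal.ResidueField (x.asIdeal.ResidueField ⊗[A] M) := fun z => by
    let y := PrimeSpectrum.comap (algebraMap A G) z
    have hy : y ⤳ x := by
      rw [← PrimeSpectrum.le_iff_specializes]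
      have h1 : PrimeSpectrum.comap (algebraMap A G) (IsLocalRing.closedPoint G) = x :=
        PrimeSpectrum.ext Localization.AtPrime.comap_maximalIdeal
      rw [← h1]
      exact Ideal.comap_mono (IsLocalRing.le_maximalIdeal z.isPrime.ne_top)
    rw [(TensorProduct.AlgebraTensorModule.cancelBaseChange A G z.asIdeal.ResidueField z.asIdeal.ResidueField M).finrank_eq,
      finrank_tensor_field M y z.asIdeal.ResidueField ?_]
    · obtain ⟨U, hU, hUo, hxU⟩ := eventually_nhds_iff.1 h
      exact hU y (hy.mem_open hUo hxU)
    · rw [IsScalarTower.algebraMap_eq A G z.asIdeal.ResidueField, ← RingHom.comap_ker,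
        Ideal.ker_algebraMap_residueField]
      rfl
  rw [key q, key]

/-- **Locally constant dimension over a reduced ring frees both cokernels.** -/
theorem good_of_isLocallyConstant [IsReduced A] (L : CochainComplex (ModuleCat.{u} A) ℤ)
    (hL : ∀ i, Module.Finite A (L.X i) ∧ Module.Free A (L.X i)) {i j : ℤ} (hij : i + 1 = j)
    (h : IsLocallyConstant (CohIII.dRank L j)) (x : PrimeSpectrum A) : Good L j x ∧ Good L i x := by
  haveI := fun k => (hL k).1
  haveI := fun k => (hL k).2
  let n := (ComplexShape.up ℤ).next j
  let l := (ComplexShape.up ℤ).prev j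
  let dn := (L.d j n).hom
  let dl := (L.d l j).hom
  have key : ∀ᶠ y in nhds x, FlatCx.fiberRank dl y = FlatCx.fiberRank dl x ∧
      FlatCx.fiberRank dn y = FlatCx.fiberRank dn x ∧
      Module.finrank y.asIdeal.ResidueField (y.asIdeal.ResidueField ⊗[A] L.X j) =
        Module.finrank x.asIdeal.ResidueField (x.asIdeal.ResidueField ⊗[A] L.X j) ∧
      Module.finrank y.asIdeal.ResidueField (y.asIdeal.ResidueField ⊗[A] L.X n) =
        Module.finrank x.asIdeal.ResidueField (x.asIdeal.ResidueField ⊗[A] L.X n) := by
    haveI := fun k => Module.finitePresentation_of_projective A (L.X k)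
    filter_upwards [FlatCx.eventually_fiberRank_ge dl x, FlatCx.eventually_fiberRank_ge dn x,
      FlatCx.eventually_finrank_fiber_eq (A := A) (P := L.X j) x,
      FlatCx.eventually_finrank_fiber_eq (A := A) (P := L.X n) x, h.eventually_eq x] with y h1 h2 h3 h4 h5
    have ex := FlatCx.dRank_add L j x
    have ey := FlatCx.dRank_add L j y
    have e1 : FlatCx.fiberRank dl y + FlatCx.fiberRank dn y = FlatCx.fiberRank dl x + FlatCx.fiberRank dn x := by
      have e0 : CohIII.dRank L j y = CohIII.dRank L j x := h5
      simp only [dl, dn, n, l] at h1 h2 ⊢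
      omega
    exact ⟨by omega, by omega, h3, h4⟩
  constructor
  · obtain ⟨e⟩ := nonempty_coker_next L j
    haveI := finitePresentation_Cq L hL j
    haveI : Module.FinitePresentation A (L.X n ⧸ LinearMap.range dn) := Module.FinitePresentation.of_equiv e.symm
    unfold Good
    rw [← Module.freeLocus_congr e]
    refine mem_freeLocus_of_eventually_eq _ x ?_
    filter_upwards [key] with y ⟨_, h2, _, h4⟩
    have ex := FlatCx.finrank_fiber_coker_add dn x
    have ey := FlatCx.finrank_fiber_coker_add dn y
    show Module.finrank _ (_ ⊗[A] (L.X n ⧸ LinearMap.range dn)) = Module.finrank _ (_ ⊗[A] (L.X n ⧸ LinearMap.range dn))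
    omega
  · obtain ⟨e⟩ := nonempty_cokIn L hij
    haveI := finitePresentation_Cq L hL i
    haveI : Module.FinitePresentation A (L.X j ⧸ LinearMap.range dl) := Module.FinitePresentation.of_equiv e.symm
    unfold Good
    rw [← Module.freeLocus_congr e]
    refine mem_freeLocus_of_eventually_eq _ x ?_
    filter_upwards [key] with y ⟨h1, _, h3, _⟩
    have ex := FlatCx.finrank_fiber_coker_add dl x
    have ey := FlatCx.finrank_fiber_coker_add dl y
    show Module.finrank _ (_ ⊗[A] (L.X j ⧸ LinearMap.range dl)) = Module.finrank _ (_ ⊗[A] (L.X j ⧸ LinearMap.range dl))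
    omega

variable {X S : Scheme.{u}} {f : X ⟶ S} {F : X.Modules} [F.IsQuasicoherent] [IsProper f]

theorem goodAll_of_isLocallyConstant [IsReduced S] (p : ℕ) (h : IsLocallyConstant (CohIII.fiberRank f F p)) (s : S) :
    GoodAll f F (p : ℤ) s ∧ GoodAll f F ((p : ℤ) - 1) s := by
  constructor <;> intro V hV hs m
  · haveI : IsReduced Γ(S, V) := inferInstance
    exact (good_of_isLocallyConstant m.L m.finFree (show (p : ℤ) - 1 + 1 = p by omega)
      (m.isLocallyConstant_dRank f hV F p h) _).1
  · haveI : IsReduced Γ(S, V) := inferInstance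
    exact (good_of_isLocallyConstant m.L m.finFree (show (p : ℤ) - 1 + 1 = p by omega)
      (m.isLocallyConstant_dRank f hV F p h) _).2

end GrothLib.BCCrit
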