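import Groth.Agent.Lib.BCCrit.RankStratum
import Groth.Agent.Lib.BCCrit.Good
import Groth.Agent.Lib.BCCrit.Reduced

/-! # The stratum of a finite free complex in degree zero -/

set_option autoImplicit false
set_option linter.style.haveILetI false
set_option maxHeartbeats 1000000
universe u

noncomputable section

open CategoryTheory TensorProduct

namespace GrothLib.BCCrit

open GrothLib.BCCoh

variable {A : Type u} [CommRing A]

theorem nonempty_Cq_bcCx {B : Type u} [CommRing B] (φ : A →+* B) (L : CochainComplex (ModuleCat.{u} A) ℤ) (i : ℤ) :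
    letI := φ.toAlgebra
    Nonempty (Cq (CohIII.bcCx φ L) i ≃ₗ[B] B ⊗[A] Cq L i) := by
  letI := φ.toAlgebra
  exact ⟨FlatCx.cokerBaseChange (L.d i (i + 1)).hom B⟩

/-- Goodness in degree zero at the point with the homology of rank `r` there. -/
def Stratum (L : CochainComplex (ModuleCat.{u} A) ℤ) (r : ℕ) (x : PrimeSpectrum A) : Prop :=
  Good L ((0 : ℕ) : ℤ) x ∧ CohIII.dRank L ((0 : ℕ) : ℤ) x = r

theorem dRank_add (L : CochainComplex (ModuleCat.{u} A) ℤ) (hL : ∀ k, Module.Finite A (L.X k) ∧ Module.Free A (L.X k))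
    (x : PrimeSpectrum A) :
    CohIII.dRank L ((0 : ℕ) : ℤ) x + Module.finrank x.asIdeal.ResidueField (x.asIdeal.ResidueField ⊗[A] L.X 1) =
      Module.finrank x.asIdeal.ResidueField (x.asIdeal.ResidueField ⊗[A] Cq L (-1)) +
        Module.finrank x.asIdeal.ResidueField (x.asIdeal.ResidueField ⊗[A] Cq L ((0 : ℕ) : ℤ)) := by
  haveI := fun k => (hL k).1
  obtain ⟨eC⟩ := nonempty_cokIn L (show (-1 : ℤ) + 1 = ((0 : ℕ) : ℤ) by norm_num)
  obtain ⟨eN⟩ := nonempty_coker_next L ((0 : ℕ) : ℤ)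
  have h1 := FlatCx.finrank_fiber_coker_add (FlatCx.dBar L ((0 : ℕ) : ℤ)) x
  have h2 := LinearMap.finrank_range_add_finrank_ker ((FlatCx.dBar L ((0 : ℕ) : ℤ)).baseChange x.asIdeal.ResidueField)
  have h3 : Module.finrank x.asIdeal.ResidueField (x.asIdeal.ResidueField ⊗[A] (FlatCx.cokIn L ((0 : ℕ) : ℤ))) = Module.finrank x.asIdeal.ResidueField (x.asIdeal.ResidueField ⊗[A] Cq L (-1)) :=
    (TensorProduct.AlgebraTensorModule.congr (LinearEquiv.refl x.asIdeal.ResidueField x.asIdeal.ResidueField) eC).finrank_eq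
  have h4 : Module.finrank x.asIdeal.ResidueField (x.asIdeal.ResidueField ⊗[A] (L.X ((ComplexShape.up ℤ).next ((0 : ℕ) : ℤ)) ⧸ LinearMap.range (FlatCx.dBar L ((0 : ℕ) : ℤ)))) =
      Module.finrank x.asIdeal.ResidueField (x.asIdeal.ResidueField ⊗[A] Cq L ((0 : ℕ) : ℤ)) :=
    (TensorProduct.AlgebraTensorModule.congr (LinearEquiv.refl x.asIdeal.ResidueField x.asIdeal.ResidueField)
      ((Submodule.quotEquivOfEq _ _ (FlatCx.range_dBar L ((0 : ℕ) : ℤ))).trans eN)).finrank_eq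
  have h5 : ∀ n, n = (1 : ℤ) → Module.finrank x.asIdeal.ResidueField (x.asIdeal.ResidueField ⊗[A] L.X n) = Module.finrank x.asIdeal.ResidueField (x.asIdeal.ResidueField ⊗[A] L.X 1) := by
    rintro n rfl; rfl
  have h6 := h5 ((ComplexShape.up ℤ).next ((0 : ℕ) : ℤ)) (by simp)
  rw [CohIII.dRank, FlatCx.finrank_homology_bcCx_eq_ker]
  unfold FlatCx.fiberRank at h1
  change _ + Module.finrank x.asIdeal.ResidueField (x.asIdeal.ResidueField ⊗[A] _) = _ at h1
  change _ = Module.finrank x.asIdeal.ResidueField (x.asIdeal.ResidueField ⊗[A] FlatCx.cokIn L ((0 : ℕ) : ℤ)) at h2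
  change Module.finrank x.asIdeal.ResidueField (LinearMap.ker ((FlatCx.dBar L ((0 : ℕ) : ℤ)).baseChange x.asIdeal.ResidueField)) + _ = _
  omega

theorem finrank_fibre_of_equiv {B : Type u} [CommRing B] [Algebra A B] {M : Type u} [AddCommGroup M] [Module A M]
    [Module.Free A M] [Module.Finite A M] {N : Type u} [AddCommGroup N] [Module B N] (e : N ≃ₗ[B] B ⊗[A] M)
    (x : PrimeSpectrum B) :
    Module.finrank x.asIdeal.ResidueField (x.asIdeal.ResidueField ⊗[B] N) = Module.finrank A M := by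
  haveI : Nontrivial B := ⟨⟨0, 1, fun h => x.isPrime.ne_top ((Ideal.eq_top_iff_one _).2 (h ▸ zero_mem _))⟩⟩
  haveI : Nontrivial A := (algebraMap A B).domain_nontrivial
  rw [(TensorProduct.AlgebraTensorModule.congr (LinearEquiv.refl x.asIdeal.ResidueField x.asIdeal.ResidueField) e).finrank_eq,
    Module.finrank_baseChange, Module.finrank_baseChange]

/-- **The stratum of a complex is cut out by two finitely generated ideals.** -/
theorem exists_ideals_stratum (L : CochainComplex (ModuleCat.{u} A) ℤ)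
    (hL : ∀ k, Module.Finite A (L.X k) ∧ Module.Free A (L.X k)) (G : Type u) [CommRing G] [Algebra A G]
    [Module.Free G (G ⊗[A] Cq L (-1))] (r : ℕ) :
    ∃ I J : Ideal G, I.FG ∧ J.FG ∧
      (∀ y : PrimeSpectrum G,
        (¬ J ≤ y.asIdeal ↔ CohIII.dRank L ((0 : ℕ) : ℤ) (y.comap (algebraMap A G)) ≤ r) ∧
        (CohIII.dRank L ((0 : ℕ) : ℤ) (y.comap (algebraMap A G)) = r ↔ I ≤ y.asIdeal ∧ ¬ J ≤ y.asIdeal)) ∧
      ∀ (B : Type u) [CommRing B] (ψ : G →+* B),
        (∀ x, Stratum (CohIII.bcCx (ψ.comp (algebraMap A G)) L) r x) ↔ I.map ψ = ⊥ ∧ J.map ψ = ⊤ := by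
  haveI := fun k => (hL k).1
  haveI := fun k => (hL k).2
  haveI : Module.Finite A (Cq L (-1)) := inferInstance
  haveI := finitePresentation_Cq L hL ((0 : ℕ) : ℤ)
  let n1 := Module.finrank A (L.X 1)
  let m0 := Module.finrank G (G ⊗[A] Cq L (-1))
  have key : ∀ (B : Type u) [CommRing B] (ψ : G →+* B) (x : PrimeSpectrum B),
      letI := ψ.toAlgebra
      ((Good (CohIII.bcCx (ψ.comp (algebraMap A G)) L) ((0 : ℕ) : ℤ) x ↔
          x ∈ Module.freeLocus B (B ⊗[G] (G ⊗[A] Cq L ((0 : ℕ) : ℤ)))) ∧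
        CohIII.dRank (CohIII.bcCx (ψ.comp (algebraMap A G)) L) ((0 : ℕ) : ℤ) x + n1 = m0 +
          Module.finrank x.asIdeal.ResidueField
            (x.asIdeal.ResidueField ⊗[B] (B ⊗[G] (G ⊗[A] Cq L ((0 : ℕ) : ℤ))))) := by
    intro B _ ψ x
    letI := ψ.toAlgebra
    let φ := ψ.comp (algebraMap A G)
    letI := φ.toAlgebra
    haveI : IsScalarTower A G B := IsScalarTower.of_algebraMap_eq fun _ => rfl
    obtain ⟨e0⟩ := nonempty_Cq_bcCx φ L ((0 : ℕ) : ℤ)
    obtain ⟨em⟩ := nonempty_Cq_bcCx φ L (-1)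
    let e0' := e0.trans (TensorProduct.AlgebraTensorModule.cancelBaseChange A G B B (Cq L ((0 : ℕ) : ℤ))).symm
    let em' := em.trans (TensorProduct.AlgebraTensorModule.cancelBaseChange A G B B (Cq L (-1))).symm
    have hL' : ∀ k, Module.Finite B ((CohIII.bcCx φ L).X k) ∧ Module.Free B ((CohIII.bcCx φ L).X k) := fun k =>
      ⟨inferInstanceAs (Module.Finite B (B ⊗[A] L.X k)), inferInstanceAs (Module.Free B (B ⊗[A] L.X k))⟩
    refine ⟨by rw [Good, Module.freeLocus_congr e0'], ?_⟩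
    have h := dRank_add (CohIII.bcCx φ L) hL' x
    rw [finrank_fibre_of_equiv em' x,
      (TensorProduct.AlgebraTensorModule.congr (LinearEquiv.refl x.asIdeal.ResidueField x.asIdeal.ResidueField) e0').finrank_eq] at h
    have h1 : Module.finrank x.asIdeal.ResidueField (x.asIdeal.ResidueField ⊗[B] (CohIII.bcCx φ L).X 1) = n1 :=
      finrank_fibre_of_equiv (N := (CohIII.bcCx φ L).X 1) (LinearEquiv.refl B (B ⊗[A] L.X 1)) x
    rw [h1] at h
    exact h
  have keyA : ∀ y : PrimeSpectrum G, CohIII.dRank L ((0 : ℕ) : ℤ) (y.comap (algebraMap A G)) + n1 = m0 +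
      Module.finrank y.asIdeal.ResidueField (y.asIdeal.ResidueField ⊗[G] (G ⊗[A] Cq L ((0 : ℕ) : ℤ))) := fun y => by
    haveI : Nontrivial G := ⟨⟨0, 1, fun h => y.isPrime.ne_top ((Ideal.eq_top_iff_one _).2 (h ▸ zero_mem _))⟩⟩
    haveI : Nontrivial A := (algebraMap A G).domain_nontrivial
    let x := y.comap (algebraMap A G)
    let K := y.asIdeal.ResidueField
    have hker : RingHom.ker (algebraMap A K) = x.asIdeal := by
      rw [IsScalarTower.algebraMap_eq A G K, ← RingHom.comap_ker, Ideal.ker_algebraMap_residueField]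
      rfl
    have hM : ∀ (M : Type u) [AddCommGroup M] [Module A M],
        Module.finrank K (K ⊗[G] (G ⊗[A] M)) = Module.finrank x.asIdeal.ResidueField (x.asIdeal.ResidueField ⊗[A] M) :=
      fun M _ _ => (TensorProduct.AlgebraTensorModule.cancelBaseChange A G K K M).finrank_eq.trans
        (finrank_tensor_field M x K hker)
    have h := dRank_add L hL x
    rw [← hM (Cq L (-1)), ← hM (Cq L ((0 : ℕ) : ℤ)), Module.finrank_baseChange, Module.finrank_baseChange] at h
    exact h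
  by_cases hlt : r + n1 < m0
  · refine ⟨⊥, ⊥, Submodule.fg_bot, Submodule.fg_bot, fun x => ?_, fun B _ φ => ⟨fun h => ?_, fun h x => ?_⟩⟩
    · have h2 := keyA x
      exact ⟨iff_of_false (fun h => h bot_le) (by omega), iff_of_false (by omega) fun h => h.2 bot_le⟩
    · rw [Ideal.map_bot]
      refine ⟨rfl, ?_⟩
      by_contra hne
      obtain ⟨P, hP, -⟩ := Ideal.exists_le_maximal (⊥ : Ideal B) hne
      have h1 := (h ⟨P, hP.isPrime⟩).2
      have h2 := (key B φ ⟨P, hP.isPrime⟩).2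
      omega
    · rw [Ideal.map_bot] at h
      exact absurd (h.2.symm ▸ Submodule.mem_top : (1 : B) ∈ (⊥ : Ideal B)) fun h0 =>
        x.isPrime.ne_top ((Ideal.eq_top_iff_one _).2 ((Ideal.mem_bot.1 h0) ▸ zero_mem _))
  obtain ⟨I, J, hI, hJ, hpt, h⟩ := exists_ideals_rankFree G (G ⊗[A] Cq L ((0 : ℕ) : ℤ)) (r + n1 - m0)
  refine ⟨I, J, hI, hJ, fun y => ?_, fun B _ ψ => ?_⟩
  · have h2 := keyA y
    rw [(hpt y).1, (hpt y).2]
    exact ⟨by omega, by omega⟩
  letI := ψ.toAlgebra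
  refine (forall_congr' fun x => ?_).trans (h B)
  obtain ⟨hg, hr⟩ := key B ψ x
  exact and_congr hg ⟨fun e => by omega, fun e => by omega⟩

end GrothLib.BCCrit
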