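import Groth.Agent.Lib.BCCrit.Degree0
import Groth.Agent.Lib.BCCrit.StratumCx
import Groth.Agent.Lib.LocClosedRep.Immersion
import Groth.Agent.Lib.FlatDesc.Basic

/-! # The stratum on which the direct image is locally free of given rank and commutes with base change -/

set_option autoImplicit false
set_option linter.style.haveILetI false
set_option backward.isDefEq.respectTransparency false
set_option maxHeartbeats 2000000
universe u

noncomputable section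

open CategoryTheory CategoryTheory.Limits AlgebraicGeometry Opposite TopologicalSpace TensorProduct

namespace GrothLib.BCCrit

open GrothLib.BCCoh

theorem rank_unique {X : Scheme.{u}} {N : X.Modules} {U U' : X.Opens} {n r : ℕ} {t : X} (h : t ∈ U) (h' : t ∈ U')
    (φ : N.restrict U.ι ≅ FlatMod.freeMod (↑U) n) (φ' : N.restrict U'.ι ≅ FlatMod.freeMod (↑U') r) : n = r := by
  obtain ⟨e, he⟩ := FinCov.exists_frame_of_iso φ
  obtain ⟨e', he'⟩ := FinCov.exists_frame_of_iso φ'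
  have ht : t ∈ U.ι ''ᵁ ⊤ := by rw [Scheme.Opens.ι_image_top]; exact h
  have ht' : t ∈ U'.ι ''ᵁ ⊤ := by rw [Scheme.Opens.ι_image_top]; exact h'
  let a := (LinearEquiv.ofBijective _ (Ref1.stalk_of_isFrame he t ht)).trans
    (LinearEquiv.ofBijective _ (Ref1.stalk_of_isFrame he' t ht')).symm
  simpa using a.finrank_eq

variable {X S : Scheme.{u}} (f : X ⟶ S) (F : X.Modules) (r : ℕ)

/-- At every point the direct image of the base change is free of rank `r`, compatibly with base change. -/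
def Pt {T : Scheme.{u}} (u : T ⟶ S) : Prop :=
  ∀ t : T, GoodAll (pullback.snd f u) ((Scheme.Modules.pullback (pullback.fst f u)).obj F) ((0 : ℕ) : ℤ) t ∧
    CohIII.fiberRank (pullback.snd f u) ((Scheme.Modules.pullback (pullback.fst f u)).obj F) 0 t = r

variable {f F} [IsProper f] [LocallyOfFinitePresentation f] [Coh.IsQCoh F] (hfp : CohB1.IsFP F)
  (hfl : FlatMod.IsFlatOver f F)

include hfp in
theorem isFP_fam {T : Scheme.{u}} (u : T ⟶ S) :
    CohB1.IsFP ((Scheme.Modules.pullback (pullback.fst f u)).obj F) :=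
  haveI : F.IsQuasicoherent := ‹Coh.IsQCoh F›
  FittSheaf.isFP_pullback _ F hfp

include hfl in
theorem isFlat_fam {T : Scheme.{u}} (u : T ⟶ S) :
    FlatMod.IsFlatOver (pullback.snd f u) ((Scheme.Modules.pullback (pullback.fst f u)).obj F) :=
  haveI : F.IsQuasicoherent := ‹Coh.IsQCoh F›
  FlatDesc.isFlatOver_baseChange (IsPullback.of_hasPullback f u) F hfl

include hfp hfl in
/-- The universal property in the form of the statement. -/
theorem pt_iff {T : Scheme.{u}} (u : T ⟶ S) :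
    Pt f F r u ↔ (FlatMod.IsFinLocFreeOfRank r
        ((Scheme.Modules.pushforward (pullback.snd f u)).obj ((Scheme.Modules.pullback (pullback.fst f u)).obj F)) ∧
      ∀ ⦃X'' T' : Scheme.{u}⦄ (v' : X'' ⟶ pullback f u) (f'' : X'' ⟶ T') (u' : T' ⟶ T)
        (h : IsPullback v' f'' (pullback.snd f u) u'),
        IsIso (CohBC.bc0 (pullback.snd f u) u' f'' v' h.w ((Scheme.Modules.pullback (pullback.fst f u)).obj F))) := by
  haveI : F.IsQuasicoherent := ‹Coh.IsQCoh F›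
  haveI : Coh.IsQCoh ((Scheme.Modules.pullback (pullback.fst f u)).obj F) := FittSheaf.isQuasicoherent_pullback _ F
  have hp := isFP_fam (f := f) hfp u
  have hl := isFlat_fam hfl u
  constructor
  · intro h
    refine ⟨fun t => ?_, fun X'' T' v' f'' u' hsq =>
      isIso_bc0_of_goodAll hp hl ⊤ (fun t _ => (h t).1) hsq fun _ => trivial⟩
    obtain ⟨U, n, htU, hφ, hn⟩ := exists_free_near0 hp hl t (h t).1
    obtain rfl : n = r := (hn t htU).symm.trans (h t).2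
    exact ⟨U, htU, hφ⟩
  · rintro ⟨hfree, hbc⟩ t
    haveI := hbc _ _ _ (IsPullback.of_hasPullback (pullback.snd f u) (T.fromSpecResidueField t))
    have hG := (goodAll_iff_epi0 hp hl t).2 (by
      show Epi (CohBC.bc0 (pullback.snd f u) _ (pullback.snd _ _) (pullback.fst _ _) _ _)
      infer_instance)
    obtain ⟨U, n, htU, ⟨φ⟩, hn⟩ := exists_free_near0 hp hl t hG
    obtain ⟨U', htU', ⟨φ'⟩⟩ := hfree t
    exact ⟨hG, (hn t htU).trans (rank_unique htU htU' φ φ')⟩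

variable {V : S.Opens} {hV : IsAffineOpen V} (m : Model (affBase f hV) (F.restrict (f ⁻¹ᵁ V).ι))

include m hfp hfl in
/-- The condition on an affine open over a model. -/
theorem pt_affine_iff {T : Scheme.{u}} (u : T ⟶ S) {W : T.Opens} (hW : IsAffineOpen W) (e : W ≤ u ⁻¹ᵁ V)
    {t : T} (ht : t ∈ W) :
    (GoodAll (pullback.snd f u) ((Scheme.Modules.pullback (pullback.fst f u)).obj F) ((0 : ℕ) : ℤ) t ∧
      CohIII.fiberRank (pullback.snd f u) ((Scheme.Modules.pullback (pullback.fst f u)).obj F) 0 t = r) ↔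
      Stratum (CohIII.bcCx (u.appLE V W e).hom m.L) r (hW.primeIdealOf ⟨t, ht⟩) := by
  haveI : F.IsQuasicoherent := ‹Coh.IsQCoh F›
  let G := (Scheme.Modules.pullback (pullback.fst f u)).obj F
  haveI : Coh.IsQCoh G := FittSheaf.isQuasicoherent_pullback _ F
  haveI : G.IsQuasicoherent := FittSheaf.isQuasicoherent_pullback _ F
  have hp := isFP_fam (f := f) hfp u
  have hl := isFlat_fam hfl u
  have hsq : IsPullback (pullback.fst f u) (pullback.snd f u) f u := IsPullback.of_hasPullback f u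
  let f' := pullback.snd f u
  let g' := pullback.fst f u
  have e' : f' ⁻¹ᵁ W ≤ g' ⁻¹ᵁ (f ⁻¹ᵁ V) := (f'.preimage_mono e).trans (CohCmp.sqLE f u f' g' hsq.w V)
  have H := isPullback_affBase hsq hV hW e e'
  obtain ⟨m₁, hm₁⟩ := Model.exists_baseChange (u.appLE V W e).hom (affBase f' hW)
    (g'.resLE (f ⁻¹ᵁ V) (f' ⁻¹ᵁ W) e') H inferInstance m
  haveI : ((Scheme.Modules.pullback (g'.resLE (f ⁻¹ᵁ V) (f' ⁻¹ᵁ W) e')).obj (F.restrict (f ⁻¹ᵁ V).ι)).IsQuasicoherent :=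
    FittSheaf.isQuasicoherent_pullback _ _
  obtain ⟨m₂, hm₂⟩ := Model.exists_ofIso (CohPull.pullOnIso g' (f ⁻¹ᵁ V) (f' ⁻¹ᵁ W) e' F) m₁
  rw [← hm₁, ← hm₂]
  refine and_congr ⟨fun h => h W hW ht m₂, fun h => ?_⟩ ?_
  · exact (goodAll_iff_epi0 hp hl t).2 ((epi_bc0_fiber_iff m₂ ht).2 h)
  · rw [m₂.fiberRank_affine f' hW G 0 t ht]

include m hfp hfl in
/-- The condition over an affine open, all points at once. -/
theorem pt_restrict_iff {T : Scheme.{u}} (u : T ⟶ S) {W : T.Opens} (hW : IsAffineOpen W) (e : W ≤ u ⁻¹ᵁ V) :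
    (∀ t, t ∈ W → GoodAll (pullback.snd f u) ((Scheme.Modules.pullback (pullback.fst f u)).obj F) ((0 : ℕ) : ℤ) t ∧
      CohIII.fiberRank (pullback.snd f u) ((Scheme.Modules.pullback (pullback.fst f u)).obj F) 0 t = r) ↔
      ∀ x, Stratum (CohIII.bcCx (u.appLE V W e).hom m.L) r x := by
  refine ⟨fun h x => ?_, fun h t ht => (pt_affine_iff r hfp hfl m u hW e ht).2 (h _)⟩
  have hx : hW.fromSpec x ∈ W := hW.range_fromSpec.le ⟨x, rfl⟩
  have h' := (pt_affine_iff r hfp hfl m u hW e hx).1 (h _ hx)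
  rwa [show hW.primeIdealOf ⟨hW.fromSpec x, hx⟩ = x from
    hW.fromSpec.isOpenEmbedding.injective (hW.fromSpec_primeIdealOf _)] at h'

/-- Affine charts of the stratum. -/
def IsChart (V : S.Opens) (I J : Ideal Γ(S, V)) : Prop :=
  (∀ y ∈ V, (CohIII.fiberRank f F 0 y ≤ r ↔ ∃ j ∈ J, y ∈ S.basicOpen j) ∧
    (CohIII.fiberRank f F 0 y = r ↔ (∀ i ∈ I, y ∉ S.basicOpen i) ∧ CohIII.fiberRank f F 0 y ≤ r)) ∧
  ∀ {T : Scheme.{u}} (u : T ⟶ S) (W : T.Opens) (_ : IsAffineOpen W) (e : W ≤ u ⁻¹ᵁ V),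
    (∀ t, t ∈ W → GoodAll (pullback.snd f u) ((Scheme.Modules.pullback (pullback.fst f u)).obj F) ((0 : ℕ) : ℤ) t ∧
      CohIII.fiberRank (pullback.snd f u) ((Scheme.Modules.pullback (pullback.fst f u)).obj F) 0 t = r) ↔
    I.map (u.appLE V W e).hom = ⊥ ∧ J.map (u.appLE V W e).hom = ⊤

include hfp hfl in
/-- **Charts exist.** -/
theorem exists_chart (s : S) : ∃ (V : S.Opens) (_ : IsAffineOpen V) (I J : Ideal Γ(S, V)),
    s ∈ V ∧ I.FG ∧ J.FG ∧ IsChart (f := f) (F := F) r V I J := by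
  haveI : F.IsQuasicoherent := ‹Coh.IsQCoh F›
  obtain ⟨V, hV, hs, ⟨m⟩⟩ := exists_model hfp hfl s
  have hfree : Module.Free (Localization.AtPrime (hV.primeIdealOf ⟨s, hs⟩).asIdeal)
      (LocalizedModule (hV.primeIdealOf ⟨s, hs⟩).asIdeal.primeCompl (Cq m.L (-1))) :=
    goodAll_of_neg (f := f) (F := F) (by norm_num) s V hV hs m
  haveI := finitePresentation_Cq m.L m.finFree (-1)
  obtain ⟨g, hg, hg', -⟩ := Module.FinitePresentation.exists_free_localizedModule_powers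
    (hV.primeIdealOf ⟨s, hs⟩).asIdeal.primeCompl
    (LocalizedModule.mkLinearMap (hV.primeIdealOf ⟨s, hs⟩).asIdeal.primeCompl (Cq m.L (-1)))
    (Localization.AtPrime (hV.primeIdealOf ⟨s, hs⟩).asIdeal)
  let D := S.basicOpen g
  let ρ := S.presheaf.map (homOfLE (S.basicOpen_le g)).op
  letI : Algebra Γ(S, V) Γ(S, D) := ρ.hom.toAlgebra
  haveI : IsLocalization.Away g Γ(S, D) := hV.isLocalization_basicOpen g
  haveI : Module.Free Γ(S, D) (Γ(S, D) ⊗[Γ(S, V)] Cq m.L (-1)) := by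
    haveI : Module.Free (Localization.Away g) (Localization.Away g ⊗[Γ(S, V)] Cq m.L (-1)) :=
      Module.Free.of_equiv (LocalizedModule.equivTensorProduct (Submonoid.powers g) (Cq m.L (-1)))
    let σ : Localization.Away g →ₐ[Γ(S, V)] Γ(S, D) :=
      (IsLocalization.algEquiv (Submonoid.powers g) (Localization.Away g) Γ(S, D)).toAlgHom
    letI : Algebra (Localization.Away g) Γ(S, D) := σ.toRingHom.toAlgebra
    haveI : IsScalarTower Γ(S, V) (Localization.Away g) Γ(S, D) :=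
      IsScalarTower.of_algebraMap_eq fun a => (σ.commutes a).symm
    exact Module.Free.of_equiv
      (TensorProduct.AlgebraTensorModule.cancelBaseChange Γ(S, V) (Localization.Away g) Γ(S, D) Γ(S, D) (Cq m.L (-1)))
  obtain ⟨I, J, hI, hJ, hpt, hB⟩ := exists_ideals_stratum m.L m.finFree Γ(S, D) r
  have hD : IsAffineOpen D := hV.basicOpen g
  refine ⟨D, hD, I, J, (notMem_primeIdealOf hV hs g).1 hg, hI, hJ, fun y hy => ?_, fun {T} u W hW e => ?_⟩
  · have hyV : y ∈ V := S.basicOpen_le g hy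
    have hcomap : (hD.primeIdealOf ⟨y, hy⟩).comap (algebraMap Γ(S, V) Γ(S, D)) = hV.primeIdealOf ⟨y, hyV⟩ := by
      apply hV.fromSpec.isOpenEmbedding.injective
      rw [hV.fromSpec_primeIdealOf]
      show hV.fromSpec (Spec.map ρ (hD.primeIdealOf ⟨y, hy⟩)) = y
      rw [← Scheme.Hom.comp_apply, hV.map_fromSpec hD (homOfLE (S.basicOpen_le g)).op, hD.fromSpec_primeIdealOf]
    obtain ⟨h1, h2⟩ := hpt (hD.primeIdealOf ⟨y, hy⟩)
    rw [hcomap, ← m.fiberRank_affine f hV F 0 y hyV] at h1 h2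
    have hJiff : (¬ J ≤ (hD.primeIdealOf ⟨y, hy⟩).asIdeal) ↔ ∃ j ∈ J, y ∈ S.basicOpen j := by
      rw [SetLike.not_le_iff_exists]
      exact exists_congr fun j => and_congr_right fun _ => notMem_primeIdealOf hD hy j
    refine ⟨h1.symm.trans hJiff, h2.trans (and_congr ?_ h1)⟩
    exact forall_congr' fun i => forall_congr' fun _ => by
      rw [← not_not (a := i ∈ (hD.primeIdealOf ⟨y, hy⟩).asIdeal), notMem_primeIdealOf hD hy i]
  · have e₀ : W ≤ u ⁻¹ᵁ V := e.trans (u.preimage_mono (S.basicOpen_le g))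
    refine (pt_restrict_iff r hfp hfl m u hW e₀).trans ?_
    have hφ : (u.appLE V W e₀).hom = (u.appLE D W e).hom.comp (algebraMap Γ(S, V) Γ(S, D)) :=
      (congrArg CommRingCat.Hom.hom (Scheme.Hom.map_appLE u e (homOfLE (S.basicOpen_le g)).op)).symm
    rw [hφ]
    exact hB Γ(T, W) (u.appLE D W e).hom

include hfp hfl in
theorem pt_comp {T T' : Scheme.{u}} (j : T' ⟶ T) {u : T ⟶ S} (h : Pt f F r u) : Pt f F r (j ≫ u) := by
  intro t'
  obtain ⟨V, hV, I, J, hs, -, -, hc⟩ := exists_chart r hfp hfl (u (j t'))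
  obtain ⟨W, hW, htW, e⟩ := exists_isAffineOpen_mem_and_subset (show j t' ∈ u ⁻¹ᵁ V from hs)
  obtain ⟨W', hW', htW', e'⟩ := exists_isAffineOpen_mem_and_subset (show t' ∈ j ⁻¹ᵁ W from htW)
  have e'' : W' ≤ (j ≫ u) ⁻¹ᵁ V := fun z hz => e (e' hz)
  obtain ⟨hI, hJ⟩ := (hc.2 u W hW e).1 fun t _ => h t
  refine (hc.2 (j ≫ u) W' hW' e'').2 ?_ t' htW'
  rw [← Scheme.Hom.appLE_comp_appLE j u V W W' e e', CommRingCat.hom_comp, ← Ideal.map_map, ← Ideal.map_map,
    hI, hJ, Ideal.map_bot, Ideal.map_top]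
  exact ⟨rfl, rfl⟩

include hfp hfl in
theorem pt_opens_iff {T : Scheme.{u}} (u : T ⟶ S) (W : T.Opens) :
    Pt f F r (W.ι ≫ u) ↔ ∀ t, t ∈ W →
      GoodAll (pullback.snd f u) ((Scheme.Modules.pullback (pullback.fst f u)).obj F) ((0 : ℕ) : ℤ) t ∧
      CohIII.fiberRank (pullback.snd f u) ((Scheme.Modules.pullback (pullback.fst f u)).obj F) 0 t = r := by
  have key : ∀ (z : W.toScheme), ∃ (V : S.Opens) (_ : IsAffineOpen V) (I J : Ideal Γ(S, V)) (W₀ : T.Opens)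
      (_ : IsAffineOpen W₀) (W₁ : W.toScheme.Opens) (_ : IsAffineOpen W₁) (e : W₀ ≤ u ⁻¹ᵁ V)
      (e₁ : W₁ ≤ (W.ι ≫ u) ⁻¹ᵁ V),
      z ∈ W₁ ∧ W₀ ≤ W ∧ IsChart (f := f) (F := F) r V I J ∧
      (I.map (u.appLE V W₀ e).hom = ⊥ ∧ J.map (u.appLE V W₀ e).hom = ⊤ ↔
        I.map ((W.ι ≫ u).appLE V W₁ e₁).hom = ⊥ ∧ J.map ((W.ι ≫ u).appLE V W₁ e₁).hom = ⊤) ∧
      W.ι z ∈ W₀ := fun z => by
    obtain ⟨V, hV, I, J, hs, -, -, hc⟩ := exists_chart r hfp hfl (u (W.ι z))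
    obtain ⟨W₀, hW₀, hz₀, hle⟩ := exists_isAffineOpen_mem_and_subset
      (show W.ι z ∈ W ⊓ u ⁻¹ᵁ V from ⟨z.2, hs⟩)
    have hW₀W : W₀ ≤ W := fun x hx => (hle hx).1
    have e : W₀ ≤ u ⁻¹ᵁ V := fun x hx => (hle hx).2
    let W₁ := W.ι ⁻¹ᵁ W₀
    have hW₁ : IsAffineOpen W₁ := hW₀.preimage_of_isOpenImmersion W.ι (by rwa [Scheme.Opens.opensRange_ι])
    have e₁ : W₁ ≤ (W.ι ≫ u) ⁻¹ᵁ V := fun x hx => e hx
    refine ⟨V, hV, I, J, W₀, hW₀, W₁, hW₁, e, e₁, hz₀, hW₀W, hc, ?_, hz₀⟩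
    rw [← Scheme.Hom.appLE_comp_appLE W.ι u V W₀ W₁ e le_rfl, CommRingCat.hom_comp, ← Ideal.map_map, ← Ideal.map_map,
      ← Scheme.Hom.app_eq_appLE]
    haveI : IsIso (W.ι.app W₀) := W.ι.isIso_app W₀ (by rwa [Scheme.Opens.opensRange_ι])
    have hbij := ConcreteCategory.bijective_of_isIso (W.ι.app W₀)
    refine and_congr (Ideal.map_eq_bot_iff_of_injective hbij.1).symm ⟨fun h => by rw [h, Ideal.map_top], fun h => ?_⟩
    have h1 := congrArg (Ideal.comap (W.ι.app W₀).hom) h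
    rwa [Ideal.comap_map_of_bijective _ hbij, Ideal.comap_top] at h1
  constructor
  · intro h t ht
    obtain ⟨V, hV, I, J, W₀, hW₀, W₁, hW₁, e, e₁, -, -, hc, hiff, ht₀⟩ := key ⟨t, ht⟩
    exact (hc.2 u W₀ hW₀ e).2 (hiff.2 ((hc.2 (W.ι ≫ u) W₁ hW₁ e₁).1 fun z _ => h z)) t ht₀
  · intro h z
    obtain ⟨V, hV, I, J, W₀, hW₀, W₁, hW₁, e, e₁, hz, hle, hc, hiff, -⟩ := key z
    exact (hc.2 (W.ι ≫ u) W₁ hW₁ e₁).2 (hiff.1 ((hc.2 u W₀ hW₀ e).1 fun t ht => h t (hle ht))) z hz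

include hfp hfl in
/-- **The stratum exists.** -/
theorem exists_stratum : ∃ (Z : Scheme.{u}) (ι : Z ⟶ S), IsImmersion ι ∧ LocallyOfFinitePresentation ι ∧
    QuasiCompact ι ∧ (∀ (T : Scheme.{u}) (u : T ⟶ S), (∃ u' : T ⟶ Z, u' ≫ ι = u) ↔ Pt f F r u) ∧
    Set.range ι = {s : S | CohIII.fiberRank f F 0 s = r} := by
  refine LocClosedRep.exists_immersion_of_charts (fun _ u => Pt f F r u) (fun j _ h => pt_comp r hfp hfl j h)
    (fun u h t => ?_) {s : S | CohIII.fiberRank f F 0 s ≤ r} _ fun s => ?_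
  · obtain ⟨W, htW, hW⟩ := h t
    exact (pt_opens_iff r hfp hfl u W).1 hW t htW
  · obtain ⟨V, hV, I, J, hs, hI, hJ, hc⟩ := exists_chart r hfp hfl s
    exact ⟨V, hV, I, J, hs, hI, hJ, hc.1, fun {T} u W hW e =>
      (pt_opens_iff r hfp hfl u W).trans (hc.2 u W hW e)⟩

end GrothLib.BCCrit
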