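import Groth.Agent.Lib.BCCrit.Local
import Groth.Agent.Lib.BCComp.PullOn
import Groth.Agent.Lib.QCoh.Qcqs
import Groth.Prelude.Def_CohBC2

/-! # The degree-zero base change map through models -/

set_option autoImplicit false
set_option linter.style.haveILetI false
set_option backward.isDefEq.respectTransparency false
set_option maxHeartbeats 2000000
universe u

noncomputable section

open CategoryTheory CategoryTheory.Limits AlgebraicGeometry Opposite TopologicalSpace TensorProduct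
open GrothLib.BCCoh (pullRes)

namespace GrothLib.BCCrit

variable {X₀ S S' X' : Scheme.{u}}

/-- Pullback of degree-zero classes is pullback of sections. -/
theorem pullOn_sectH0 (g : X' ⟶ X₀) (U : X₀.Opens) (U' : X'.Opens) (h : U' ≤ g ⁻¹ᵁ U) (F : X₀.Modules)
    (s : Γ(F, U)) :
    CohPull.pullOn g U U' h F 0 (CohPull.sectH0 F U s) =
      CohPull.sectH0 ((Scheme.Modules.pullback g).obj F) U' (pullRes g F U U' h s) := by
  apply (Sheaf.H.equiv₀ (Coh.toAb (((Scheme.Modules.pullback g).obj F).restrict U'.ι)) isTerminalTop).injective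
  rw [CohPullLib.sectH0_symm_apply]
  show Sheaf.H.equiv₀ _ isTerminalTop (CohPull.mapH (CohPull.pullOnIso g U U' h F).hom 0
    (CohPull.pullMod (g.resLE U U' h) (F.restrict U.ι) 0 (CohPull.sectH0 F U s))) = _
  rw [CohPullLib.mapH_apply, ← Sheaf.H.equiv₀_naturality, CohPull.equiv₀_pullMod, CohPullLib.sectH0_symm_apply]
  have e₁ : (⊤ : (U' : Scheme.{u}).Opens) ≤ g.resLE U U' h ⁻¹ᵁ ⊤ := le_rfl
  have e' : U'.ι ''ᵁ ⊤ ≤ g ⁻¹ᵁ (U.ι ''ᵁ ⊤) := by
    rw [U.ι_image_top, U'.ι_image_top]; exact h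
  show (CohPull.pullOnIso g U U' h F).hom.app ⊤
    (((Scheme.Modules.pullbackPushforwardAdjunction (g.resLE U U' h)).unit.app (F.restrict U.ι)).app ⊤
      (F.presheaf.map (homOfLE U.ι_image_top.le).op s)) = _
  refine (congrArg ((CohPull.pullOnIso g U U' h F).hom.app ⊤)
    ((CohPullLib.map_sec_self ((Scheme.Modules.pullback (g.resLE U U' h)).obj (F.restrict U.ι))
    e₁ _).symm.trans (CohPullLib.pullRes_def (g.resLE U U' h) (F.restrict U.ι) ⊤ ⊤ e₁ _).symm)).trans ?_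
  refine (BCComp.pullOnIso_pullRes g U U' h F ⊤ ⊤ e₁ e' _).trans ?_
  rw [CohPullLib.pullRes_def, CohPullLib.pullRes_def]
  refine (congrArg _ (CohPullLib.app_res ((Scheme.Modules.pullbackPushforwardAdjunction g).unit.app F)
    U.ι_image_top.le s)).trans ?_
  exact (CohPullLib.map_map_sec _ _ _ _).trans (CohPullLib.map_map_sec _ _ _ _).symm

/-- Degree-zero classes are linear over the functions on an affine open of the base. -/
theorem sectH0_smul (f : X₀ ⟶ S) {V : S.Opens} (hV : IsAffineOpen V) (F : X₀.Modules) (a : Γ(S, V))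
    (s : Γ(F, f ⁻¹ᵁ V)) :
    letI := BCCoh.modHH (A := Γ(S, V)) (BCCoh.affBase f hV) (F.restrict (f ⁻¹ᵁ V).ι) 0
    a • CohPull.sectH0 F (f ⁻¹ᵁ V) s = CohPull.sectH0 F (f ⁻¹ᵁ V) (f.app V a • s) := by
  letI := BCCoh.modHH (A := Γ(S, V)) (BCCoh.affBase f hV) (F.restrict (f ⁻¹ᵁ V).ι) 0
  apply (Sheaf.H.equiv₀ (Coh.toAb (F.restrict (f ⁻¹ᵁ V).ι)) isTerminalTop).injective
  refine (Sheaf.H.equiv₀_naturality isTerminalTop
    (Coh.smulAb (F.restrict (f ⁻¹ᵁ V).ι) (Coh.toGlobal (BCCoh.affBase f hV) a))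
    (CohPull.sectH0 F (f ⁻¹ᵁ V) s)).symm.trans ?_
  rw [CohPullLib.sectH0_symm_apply, CohPullLib.sectH0_symm_apply]
  refine (Coh.smulAb_app _ _ (op ⊤) _).trans ?_
  refine Eq.trans ?_ (Scheme.Modules.map_smul F (homOfLE (f ⁻¹ᵁ V).ι_image_top.le) (f.app V a) s).symm
  show ((f ⁻¹ᵁ V).ι.appIso ⊤).inv
      ((((f ⁻¹ᵁ V : X₀.Opens) : Scheme.{u}).presheaf.map (𝟙 _)) (Coh.toGlobal (BCCoh.affBase f hV) a)) •
    F.presheaf.map (homOfLE (f ⁻¹ᵁ V).ι_image_top.le).op s = _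
  congr 1
  rw [CategoryTheory.Functor.map_id]
  exact BCCoh.toGlobal_affBase f hV a

variable {f : X₀ ⟶ S} {g₀ : S' ⟶ S} {f' : X' ⟶ S'} {g' : X' ⟶ X₀}

/-- The degree-zero base change map on pulled-back sections. -/
theorem bc0_pullRes (w : g' ≫ f = f' ≫ g₀) (F : X₀.Modules) (V : S.Opens) (V' : S'.Opens) (e : V' ≤ g₀ ⁻¹ᵁ V)
    (e' : f' ⁻¹ᵁ V' ≤ g' ⁻¹ᵁ (f ⁻¹ᵁ V)) (s : Γ(F, f ⁻¹ᵁ V)) :
    (CohBC.bc0 f g₀ f' g' w F).app V' (pullRes g₀ ((Scheme.Modules.pushforward f).obj F) V V' e s) =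
      pullRes g' F (f ⁻¹ᵁ V) (f' ⁻¹ᵁ V') e' s := by
  rw [CohPullLib.pullRes_def]
  refine (CohPullLib.app_res (CohBC.bc0 f g₀ f' g' w F) e _).trans ?_
  have h : (Scheme.Modules.pullbackPushforwardAdjunction g₀).unit.app _ ≫
      (Scheme.Modules.pushforward g₀).map (CohBC.bc0 f g₀ f' g' w F) = CohBC.bc0Adj f g₀ f' g' w F :=
    ((Scheme.Modules.pullbackPushforwardAdjunction g₀).homEquiv_unit _ _ _).symm.trans (Equiv.apply_symm_apply _ _)
  refine (congrArg _ (congrArg (fun t => (Scheme.Modules.Hom.app t V) s) h)).trans ?_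
  rw [CohPullLib.pullRes_def]
  simp only [CohBC.bc0Adj, Scheme.Modules.Hom.comp_app, ConcreteCategory.comp_apply]
  exact CohPullLib.map_map_sec _ _ _ _

/-- A cover of the source over an affine open of the base computing the degree-zero base change map. -/
theorem bijective_bc0_app_iff (hsq : IsPullback g' f' f g₀) [QuasiCompact f] [IsSeparated f]
    (F : X₀.Modules) [F.IsQuasicoherent]
    {V : S.Opens} {V' : S'.Opens} (hV : IsAffineOpen V) (hV' : IsAffineOpen V') (e : V' ≤ g₀ ⁻¹ᵁ V)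
    {ι : Type u} [Finite ι] (U : ι → ((f ⁻¹ᵁ V : X₀.Opens) : Scheme.{u}).Opens) (hcov : iSup U = ⊤)
    (haff : ∀ (n : ℕ) (a : Fin (n + 1) → ι), IsAffineOpen (⨅ k, U (a k))) :
    letI : Algebra Γ(S, V) Γ(S', V') := (g₀.appLE V V' e).hom.toAlgebra
    let C := BCCoh.cx (A := Γ(S, V)) (BCCoh.affBase f hV) U (F.restrict (f ⁻¹ᵁ V).ι)
    (Function.Bijective ((CohBC.bc0 f g₀ f' g' hsq.w F).app V') ↔
      Function.Bijective (BCCoh.cmpT C (0 : ℕ) (ModuleCat.of Γ(S, V) Γ(S', V')))) ∧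
    (Function.Surjective ((CohBC.bc0 f g₀ f' g' hsq.w F).app V') ↔
      Function.Surjective (BCCoh.cmpT C (0 : ℕ) (ModuleCat.of Γ(S, V) Γ(S', V')))) := by
  letI : Algebra Γ(S, V) Γ(S', V') := (g₀.appLE V V' e).hom.toAlgebra
  haveI : IsSeparated f' := MorphismProperty.of_isPullback (P := @IsSeparated) hsq ‹_›
  haveI : QuasiCompact f' := MorphismProperty.of_isPullback (P := @QuasiCompact) hsq ‹_›
  let G := (Scheme.Modules.pullback g').obj F
  haveI : G.IsQuasicoherent := FittSheaf.isQuasicoherent_pullback g' F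
  let N := (Scheme.Modules.pushforward f).obj F
  haveI : N.IsQuasicoherent := QCoh.isQuasicoherent_pushforward f F
  let N' := (Scheme.Modules.pushforward f').obj G
  let U₀ : X₀.Opens := f ⁻¹ᵁ V
  let M := F.restrict U₀.ι
  haveI : M.IsQuasicoherent :=
    haveI := FittSheaf.isQuasicoherent_pullback U₀.ι F
    (SheafOfModules.isQuasicoherent (U₀ : Scheme.{u}).ringCatSheaf).prop_of_iso ((Scheme.Modules.restrictFunctorIsoPullback U₀.ι).app F).symm this
  have h₁ := CohCmp.sqLE f g₀ f' g' hsq.w V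
  have h₂ : f' ⁻¹ᵁ V' ≤ f' ⁻¹ᵁ (g₀ ⁻¹ᵁ V) := f'.preimage_mono e
  let r := g'.resLE U₀ (f' ⁻¹ᵁ V') (h₂.trans h₁)
  let f₀ := BCCoh.affBase f hV
  let f₁ := BCCoh.affBase f' hV'
  have H : IsPullback r f₁ f₀ (Spec.map (CommRingCat.ofHom (algebraMap Γ(S, V) Γ(S', V')))) :=
    isPullback_affBase hsq hV hV' e (h₂.trans h₁)
  obtain ⟨β, hβ⟩ := exists_resLE_pullOn g' h₁ h₂ F
  letI := BCCoh.modHH (A := Γ(S, V)) f₀ M 0
  let G₁ := (Scheme.Modules.pullback r).obj M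
  letI : Module Γ(S', V') (Coh.HH _ G₁ 0) := BCCoh.modHH (A := Γ(S', V')) f₁ G₁ 0
  letI := modA (A := Γ(S, V)) (B := Γ(S', V')) f₁ r M 0
  haveI : IsScalarTower Γ(S, V) Γ(S', V') (Coh.HH _ G₁ 0) := IsScalarTower.of_algebraMap_smul fun _ _ => rfl
  obtain ⟨P, hP, hsur, hbij⟩ := exists_comparison f₀ f₁ r H M U hcov haff 0
  let εA : Coh.HH _ M 0 →+ Γ(N, V) := (CohPull.sectH0 F U₀).symm.toAddMonoidHom
  have hεA : ∀ (a : Γ(S, V)) x, εA (a • x) = a • εA x := fun a x => by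
    obtain ⟨s, rfl⟩ := (CohPull.sectH0 F U₀).surjective x
    refine (congrArg (CohPull.sectH0 F U₀).symm (sectH0_smul f hV F a s)).trans ?_
    refine ((CohPull.sectH0 F U₀).symm_apply_apply _).trans ?_
    exact (congrArg (fun t => f.app V a • t) ((CohPull.sectH0 F U₀).symm_apply_apply s)).symm
  let εB : Coh.HH _ G₁ 0 →+ Γ(N', V') :=
    (CohPull.sectH0 G (f' ⁻¹ᵁ V')).symm.toAddMonoidHom.comp (CohPull.mapH β.hom 0)
  have hεB : Function.Bijective εB := by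
    refine (CohPull.sectH0 G (f' ⁻¹ᵁ V')).symm.bijective.comp (Function.bijective_iff_has_inverse.2
      ⟨CohPull.mapH β.inv 0, fun x => (eq_mapH_inv β rfl).symm, fun x => (eq_mapH_inv β.symm rfl).symm⟩)
  have hεBsmul : ∀ (b : Γ(S', V')) y, εB (b • y) = b • εB y := fun b y => by
    letI := BCCoh.modHH (A := Γ(S', V')) (BCCoh.affBase f' hV') (G.restrict (f' ⁻¹ᵁ V').ι) 0
    have hm : CohPull.mapH β.hom 0 (b • y) = b • CohPull.mapH β.hom 0 y := by
      refine (Sheaf.H.map_comp_apply _ _ _).symm.trans ?_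
      exact (congrArg (fun t => Sheaf.H.map t 0 y) (Cohom.smulAb_naturality β.hom (Coh.toGlobal f₁ b))).trans
        (Sheaf.H.map_comp_apply _ _ _)
    obtain ⟨s, hs⟩ := (CohPull.sectH0 G (f' ⁻¹ᵁ V')).surjective (CohPull.mapH β.hom 0 y)
    refine (congrArg (CohPull.sectH0 G (f' ⁻¹ᵁ V')).symm ((hm.trans (congrArg (b • ·) hs.symm)).trans
      (sectH0_smul f' hV' G b s))).trans ?_
    refine ((CohPull.sectH0 G (f' ⁻¹ᵁ V')).symm_apply_apply _).trans ?_
    exact congrArg (fun t => f'.app V' b • t)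
      (((CohPull.sectH0 G (f' ⁻¹ᵁ V')).symm_apply_apply s).symm.trans
        (congrArg (CohPull.sectH0 G (f' ⁻¹ᵁ V')).symm hs))
  letI : Module Γ(S, V) Γ((Scheme.Modules.pullback g₀).obj N, V') := Module.compHom _ (g₀.appLE V V' e).hom
  haveI : IsScalarTower Γ(S, V) Γ(S', V') Γ((Scheme.Modules.pullback g₀).obj N, V') :=
    IsScalarTower.of_algebraMap_smul fun _ _ => rfl
  obtain ⟨q, hq, hqv⟩ := BCCoh.isBaseChange_pullRes g₀ N hV hV' e
  have hcompat : ∀ x, εB (P x) = ((CohBC.bc0 f g₀ f' g' hsq.w F).app V').hom (q (εA x)) := fun x => by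
    obtain ⟨s, rfl⟩ := (CohPull.sectH0 F U₀).surjective x
    refine Eq.trans ?_ ((congrArg ((CohBC.bc0 f g₀ f' g' hsq.w F).app V')
      ((hqv (εA (CohPull.sectH0 F U₀ s))).trans
        (congrArg (pullRes g₀ N V V' e) ((CohPull.sectH0 F U₀).symm_apply_apply s)))).trans
      (bc0_pullRes hsq.w F V V' e (h₂.trans h₁) s)).symm
    refine (congrArg (fun t => (CohPull.sectH0 G (f' ⁻¹ᵁ V')).symm (CohPull.mapH β.hom 0 t)) (hP _)).trans ?_
    refine (congrArg (CohPull.sectH0 G (f' ⁻¹ᵁ V')).symm ((hβ 0 _).symm.trans ((congrArg _ (pullOn_sectH0 g' _ _ h₁ F s)).trans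
      (CohPullLib.resLE_sectH0 h₂ G _)))).trans ?_
    refine ((CohPull.sectH0 G (f' ⁻¹ᵁ V')).symm_apply_apply _).trans ?_
    rw [CohPullLib.pullRes_def, CohPullLib.pullRes_def]
    exact CohPullLib.map_map_sec _ _ _ _
  obtain ⟨hb, hs⟩ := iff_liftBaseChange P εA (CohPull.sectH0 F U₀).symm.bijective hεA εB hεB hεBsmul q hq
    ((CohBC.bc0 f g₀ f' g' hsq.w F).app V').hom
    (fun b z => Scheme.Modules.Hom.app_smul (CohBC.bc0 f g₀ f' g' hsq.w F) b z) hcompat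
  exact ⟨hb.trans hbij, hs.trans hsur⟩

end GrothLib.BCCrit
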