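import Groth.Agent.Lib.BCCoh.BaseModel
import Groth.Agent.Lib.CohPullLib.SecPull
import Groth.Prelude.Def_Formal

/-! # The Cech complex of `r_* r^* M` is the Cech complex of `M` tensor `B` -/

set_option autoImplicit false
set_option linter.style.haveILetI false
set_option maxHeartbeats 1000000
universe u

open CategoryTheory CategoryTheory.Limits AlgebraicGeometry Opposite TopologicalSpace TensorProduct MonoidalCategory

namespace GrothLib.BCCrit

open GrothLib.BCCoh

variable {A B : Type u} [CommRing A] [CommRing B] [Algebra A B] {X X' : Scheme.{u}}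
  (f : X ⟶ Spec (CommRingCat.of A)) (f' : X' ⟶ Spec (CommRingCat.of B)) (g : X' ⟶ X)
  (H : IsPullback g f' f (Spec.map (CommRingCat.ofHom (algebraMap A B)))) (F : X.Modules)

/-- `g_* g^* F`. -/
noncomputable abbrev GG : X.Modules := (Scheme.Modules.pushforward g).obj ((Scheme.Modules.pullback g).obj F)

/-- Sections of `g^* F` over a preimage, as sections of `g_* g^* F`. -/
noncomputable abbrev toGG (V : X.Opens) (t : Γ((Scheme.Modules.pullback g).obj F, g ⁻¹ᵁ V)) : secA f (GG g F) V := t

include H in
theorem secA_GG_smul (V : X.Opens) (a : A) (t : Γ((Scheme.Modules.pullback g).obj F, g ⁻¹ᵁ V)) :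
    a • toGG f g F V t = toGG f g F V (psiS f' (g ⁻¹ᵁ V) (algebraMap A B a) • t) := by
  rw [← appLE_psiS (algebraMap A B) f f' g H V (g ⁻¹ᵁ V) le_rfl a, Scheme.Hom.appLE_eq_app]
  rfl

/-- `b • g^* s`. -/
noncomputable abbrev pB (V : X.Opens) (b : B) (s : Γ(F, V)) : Γ((Scheme.Modules.pullback g).obj F, g ⁻¹ᵁ V) :=
  psiS f' (g ⁻¹ᵁ V) b • pullRes g F V (g ⁻¹ᵁ V) le_rfl s

theorem pB_add_left (V : X.Opens) (b c : B) (s : Γ(F, V)) :
    pB f' g F V (b + c) s = pB f' g F V b s + pB f' g F V c s := by
  simp only [pB, map_add, add_smul]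

theorem pB_add_right (V : X.Opens) (b : B) (s t : Γ(F, V)) :
    pB f' g F V b (s + t) = pB f' g F V b s + pB f' g F V b t := by
  simp only [pB, pullRes_add, smul_add]

theorem pB_mul (V : X.Opens) (b c : B) (s : Γ(F, V)) :
    pB f' g F V (b * c) s = psiS f' (g ⁻¹ᵁ V) b • pB f' g F V c s := by
  simp only [pB, map_mul, mul_smul]

include H in
theorem pB_smul (V : X.Opens) (a : A) (b : B) (s : Γ(F, V)) :
    pB f' g F V b (psiS f V a • s) = psiS f' (g ⁻¹ᵁ V) (algebraMap A B a) • pB f' g F V b s := by
  simp only [pB, pullRes_smul, appLE_psiS (algebraMap A B) f f' g H]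
  exact smul_comm _ _ _

/-- `s ⊗ b ↦ b • g^* s`. -/
noncomputable def secB (V : X.Opens) : (secA f F V) ⊗[A] (ModuleCat.of A B) →ₗ[A] secA f (GG g F) V :=
  TensorProduct.lift (LinearMap.mk₂ A
    (fun (s : secA f F V) (b : B) => toGG f g F V (pB f' g F V b s))
    (fun s t b => pB_add_right f' g F V b s t)
    (fun a s b => (pB_smul f f' g H F V a b s).trans (secA_GG_smul f f' g H F V a _).symm)
    (fun s b c => pB_add_left f' g F V b c s)
    (fun a s b => ((congrArg (fun t => toGG f g F V (pB f' g F V t s)) (Algebra.smul_def a b)).trans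
      (pB_mul f' g F V _ b s)).trans (secA_GG_smul f f' g H F V a _).symm))

theorem secB_tmul (V : X.Opens) (s : secA f F V) (b : B) :
    secB f f' g H F V (s ⊗ₜ[A] b) = toGG f g F V (pB f' g F V b s) := rfl

theorem bijective_secB [F.IsQuasicoherent] {V : X.Opens} (hV : IsAffineOpen V) :
    Function.Bijective (secB f f' g H F V) := by
  letI : Module A (secA f' ((Scheme.Modules.pullback g).obj F) (g ⁻¹ᵁ V)) := Module.compHom _ (algebraMap A B)
  haveI : IsScalarTower A B (secA f' ((Scheme.Modules.pullback g).obj F) (g ⁻¹ᵁ V)) :=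
    IsScalarTower.of_algebraMap_smul fun _ _ => rfl
  have hbc : IsBaseChange B (linOf (algebraMap A B) (bcHom (algebraMap A B) f f' g H F V (g ⁻¹ᵁ V) le_rfl)) :=
    by
      have hinst : (algebraMap A B).toAlgebra = ‹Algebra A B› := Algebra.algebra_ext _ _ fun _ => rfl
      have h0 := isBC_bcHom (algebraMap A B) f f' g H F hV rfl
      unfold IsBC at h0
      convert h0
      exact hinst.symm
  have h : ∀ z, secB f f' g H F V z =
      (show secA f (GG g F) V from hbc.equiv (TensorProduct.comm A (secA f F V) B z)) := fun z => by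
    induction z using TensorProduct.induction_on with
    | zero => simp only [map_zero]; rfl
    | tmul s b => exact (hbc.equiv_tmul b s).symm
    | add z w hz hw => simp only [map_add, hz, hw]; rfl
  rw [show ⇑(secB f f' g H F V) = ⇑hbc.equiv ∘ ⇑(TensorProduct.comm A (secA f F V) B) from funext h]
  exact hbc.equiv.bijective.comp (LinearEquiv.bijective _)

theorem secB_res {V V' : X.Opens} (h : V' ≤ V) (z : (secA f F V) ⊗[A] (ModuleCat.of A B)) :
    resA f (GG g F) h (secB f f' g H F V z) = secB f f' g H F V' ((resA f F h).rTensor (ModuleCat.of A B) z) := by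
  induction z using TensorProduct.induction_on with
  | zero => simp only [map_zero]
  | tmul s b =>
    show ((Scheme.Modules.pullback g).obj F).presheaf.map (homOfLE (g.preimage_mono h)).op
      (psiS f' (g ⁻¹ᵁ V) b • pullRes g F V (g ⁻¹ᵁ V) le_rfl s) =
        psiS f' (g ⁻¹ᵁ V') b • pullRes g F V' (g ⁻¹ᵁ V') le_rfl (F.presheaf.map (homOfLE h).op s)
    rw [Scheme.Modules.map_smul, pullRes_res g F h le_rfl le_rfl (g.preimage_mono h)]
    congr 1
    exact psi_res f' (g.preimage_mono h) b
  | add z w hz hw => simp only [map_add, hz, hw]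

/-- Multiplication by `b` on `g_* g^* F`. -/
noncomputable abbrev mulG (b : B) : GG g F ⟶ GG g F :=
  (Scheme.Modules.pushforward g).map (Formal.smulModΓ ((Scheme.Modules.pullback g).obj F) (Coh.toGlobal f' b))

/-- Multiplication by `b` on `B`. -/
noncomputable def mulB (b : B) : ModuleCat.of A B ⟶ ModuleCat.of A B :=
  ModuleCat.ofHom (LinearMap.mulLeft A b)

/-- `A → B`. -/
noncomputable def oneB : ModuleCat.of A A ⟶ ModuleCat.of A B :=
  ModuleCat.ofHom (LinearMap.toSpanSingleton A B 1)

theorem secB_mul (V : X.Opens) (b : B) (z : (secA f F V) ⊗[A] (ModuleCat.of A B)) :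
    appA f (mulG f' g F b) V (secB f f' g H F V z) =
      secB f f' g H F V ((mulB b).hom.lTensor (secA f F V) z) := by
  induction z using TensorProduct.induction_on with
  | zero => simp only [map_zero]
  | tmul s c => exact (congrArg (toGG f g F V) (pB_mul f' g F V b c s)).symm
  | add z w hz hw => simp only [map_add, hz, hw]

theorem secB_one (V : X.Opens) (s : secA f F V) (a : A) :
    secB f f' g H F V (oneB.hom.lTensor (secA f F V) (s ⊗ₜ[A] a)) =
      appA f ((Scheme.Modules.pullbackPushforwardAdjunction g).unit.app F) V (a • s) := by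
  have h : oneB.hom.lTensor (secA f F V) (s ⊗ₜ[A] a) = a • (s ⊗ₜ[A] (show ModuleCat.of A B from (1 : B))) := by
    simp [oneB]
  rw [h, map_smul, map_smul]
  refine congrArg (a • ·) ?_
  refine ((congrArg (· • pullRes g F V (g ⁻¹ᵁ V) le_rfl s) (map_one _)).trans (one_smul _ _)).trans ?_
  exact CohPullLib.map_sec_self ((Scheme.Modules.pullback g).obj F) le_rfl _

variable {ι : Type u} (U : ι → X.Opens)

/-- The comparison in each degree. -/
noncomputable def thetaB (n : ℕ) : (cxX f U F n) ⊗[A] (ModuleCat.of A B) →ₗ[A] cxX f U (GG g F) n :=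
  LinearMap.pi fun a => (secB f f' g H F (W U a)).comp
    (LinearMap.rTensor (ModuleCat.of A B) (LinearMap.proj (R := A) (φ := fun a : Fin (n + 1) → ι => secA f F (W U a)) a))

theorem bijective_thetaB [F.IsQuasicoherent] [Finite ι]
    (haff : ∀ (n : ℕ) (a : Fin (n + 1) → ι), IsAffineOpen (⨅ k, U (a k))) (n : ℕ) :
    Function.Bijective (thetaB f f' g H F U n) := by
  classical
  haveI := Fintype.ofFinite (Fin (n + 1) → ι)
  let M := ModuleCat.of A B
  let e : (cxX f U F n) ⊗[A] M ≃ₗ[A] cxX f U (GG g F) n :=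
    (TensorProduct.comm A _ M).trans
      ((TensorProduct.piRight A A M (fun a : Fin (n + 1) → ι => secA f F (W U a))).trans
        (LinearEquiv.piCongrRight fun a => (TensorProduct.comm A M (secA f F (W U a))).trans
          (LinearEquiv.ofBijective (secB f f' g H F (W U a))
            (bijective_secB f f' g H F (isAffineOpen_W U haff a)))))
  have h : thetaB f f' g H F U n = e.toLinearMap := TensorProduct.ext' fun y m => funext fun a => rfl
  rw [h]
  exact e.bijective

theorem thetaB_d (n : ℕ) (z : (cxX f U F n) ⊗[A] (ModuleCat.of A B)) :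
    cxd f U (GG g F) n (thetaB f f' g H F U n z) =
      thetaB f f' g H F U (n + 1) (((cxd f U F n).hom).rTensor (ModuleCat.of A B) z) := by
  induction z using TensorProduct.induction_on with
  | zero => simp only [map_zero]
  | tmul y m =>
    funext a
    rw [cxd_apply]
    show _ = secB f f' g H F (W U a) ((cxd f U F n y a) ⊗ₜ[A] m)
    rw [cxd_apply, TensorProduct.sum_tmul, map_sum]
    refine Finset.sum_congr rfl fun k _ => ?_
    rw [← TensorProduct.smul_tmul' ((-1 : ℤ) ^ (k : ℕ)), map_zsmul]
    refine congrArg ((-1 : ℤ) ^ (k : ℕ) • ·) ?_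
    exact secB_res f f' g H F _ (y (fun l => a (k.succAbove l)) ⊗ₜ[A] m)
  | add z w hz hw => simp only [map_add, hz, hw]

/-- **Cech complex of `g_* g^* F`.** -/
noncomputable def tensorBIso [F.IsQuasicoherent] [Finite ι]
    (haff : ∀ (n : ℕ) (a : Fin (n + 1) → ι), IsAffineOpen (⨅ k, U (a k))) :
    CohIII.tensorObj (cx f U F) (ModuleCat.of A B) ≅ cx f U (GG g F) :=
  HomologicalComplex.Hom.isoOfComponents
    (fun n => (LinearEquiv.ofBijective (thetaB f f' g H F U n)
      (bijective_thetaB f f' g H F U haff n)).toModuleIso)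
    fun i j h => by
      obtain rfl : i + 1 = j := h
      refine ConcreteCategory.hom_ext _ _ fun z => ?_
      show (cx f U (GG g F)).d i (i + 1) (thetaB f f' g H F U i z) =
        thetaB f f' g H F U (i + 1) (((cx f U F).d i (i + 1)).hom.rTensor (ModuleCat.of A B) z)
      rw [cx_d, cx_d]
      exact thetaB_d f f' g H F U i z

theorem tensorBIso_mul [F.IsQuasicoherent] [Finite ι]
    (haff : ∀ (n : ℕ) (a : Fin (n + 1) → ι), IsAffineOpen (⨅ k, U (a k))) (b : B) :
    CohIII.tensorMap (cx f U F) (mulB b) ≫ (tensorBIso f f' g H F U haff).hom =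
      (tensorBIso f f' g H F U haff).hom ≫ cxMap f U (mulG f' g F b) := by
  refine HomologicalComplex.hom_ext _ _ fun n => ConcreteCategory.hom_ext _ _ fun z => funext fun a => ?_
  show secB f f' g H F (W U a) ((LinearMap.proj a).rTensor (ModuleCat.of A B) ((mulB b).hom.lTensor (cxX f U F n) z)) =
    appA f (mulG f' g F b) (W U a) (secB f f' g H F (W U a) ((LinearMap.proj a).rTensor (ModuleCat.of A B) z))
  rw [secB_mul]
  refine congrArg (secB f f' g H F (W U a)) ?_
  exact (LinearMap.congr_fun (LinearMap.rTensor_comp_lTensor _ _ _) z).trans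
    (LinearMap.congr_fun (LinearMap.lTensor_comp_rTensor _ _ _) z).symm

/-- `C ⊗ A = C`. -/
noncomputable def unitI : CohIII.tensorObj (cx f U F) (ModuleCat.of A A) ≅ cx f U F :=
  (NatIso.mapHomologicalComplex (rightUnitorNatIso (ModuleCat.{u} A)) (ComplexShape.up ℕ)).app (cx f U F) ≪≫
    (Functor.mapHomologicalComplexIdIso _ (ComplexShape.up ℕ)).app (cx f U F)

theorem tensorBIso_one [F.IsQuasicoherent] [Finite ι]
    (haff : ∀ (n : ℕ) (a : Fin (n + 1) → ι), IsAffineOpen (⨅ k, U (a k))) :
    CohIII.tensorMap (cx f U F) oneB ≫ (tensorBIso f f' g H F U haff).hom =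
      (unitI f F U).hom ≫ cxMap f U ((Scheme.Modules.pullbackPushforwardAdjunction g).unit.app F) := by
  refine HomologicalComplex.hom_ext _ _ fun n => ModuleCat.hom_ext (TensorProduct.ext' fun y a => funext fun b => ?_)
  exact secB_one f f' g H F (W U b) (y b) a

end GrothLib.BCCrit
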