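import Groth.Agent.Lib.BCCrit.CechBC
import Groth.Agent.Lib.BCCoh.Cmp
import Groth.Agent.Lib.CohPullLib.Edge
import Groth.Agent.Lib.QCoh.Coherent

/-! # Base change of cohomology classes is the comparison `T(A) ⊗ B → T(B)` -/

set_option autoImplicit false
set_option linter.style.haveILetI false
set_option maxHeartbeats 1000000
universe u

open CategoryTheory CategoryTheory.Limits AlgebraicGeometry Opposite TopologicalSpace TensorProduct MonoidalCategory

namespace GrothLib.BCCrit

open GrothLib.BCCoh

variable {A B : Type u} [CommRing A] [CommRing B] [Algebra A B] {X X' : Scheme.{u}}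
  (f : X ⟶ Spec (CommRingCat.of A)) (f' : X' ⟶ Spec (CommRingCat.of B)) (g : X' ⟶ X)
  (H : IsPullback g f' f (Spec.map (CommRingCat.ofHom (algebraMap A B)))) (F : X.Modules) [F.IsQuasicoherent]
  {ι : Type u} [Finite ι] (U : ι → X.Opens) (hcov : iSup U = ⊤)
  (haff : ∀ (n : ℕ) (a : Fin (n + 1) → ι), IsAffineOpen (⨅ k, U (a k))) (p : ℕ)

include H hcov haff in
/-- Cohomology classes and their pullbacks, in the Cech complex. -/
theorem exists_equivs :
    ∃ (eA : Coh.HH X F p ≃+ CohIII.T (cx f U F) p (ModuleCat.of A A))
      (eB : Coh.HH X' ((Scheme.Modules.pullback g).obj F) p ≃+ CohIII.T (cx f U F) p (ModuleCat.of A B)),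
      (∀ (a : A) x, letI := modHH f F p; eA (a • x) = a • eA x) ∧
      (∀ x, eB (CohPull.pullMod g F p x) = ((CohIII.TFun (cx f U F) p).map oneB).hom (eA x)) ∧
      ∀ (b : B) y, letI := modHH f' ((Scheme.Modules.pullback g).obj F) p
        eB (b • y) = ((CohIII.TFun (cx f U F) p).map (mulB b)).hom (eB y) := by
  haveI := isAffineHom_bc (algebraMap A B) f f' g H
  let G := (Scheme.Modules.pullback g).obj F
  haveI : G.IsQuasicoherent := FittSheaf.isQuasicoherent_pullback g F
  haveI hq : (GG g F).IsQuasicoherent := QCoh.isQuasicoherent_pushforward g G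
  obtain ⟨e, he, hnat⟩ := exists_linearEquiv f U hcov haff p
  let η := (Scheme.Modules.pullbackPushforwardAdjunction g).unit.app F
  let jA := HomologicalComplex.homologyMapIso (unitI f F U) p
  let jB := HomologicalComplex.homologyMapIso (tensorBIso f f' g H F U haff) p
  let E : Coh.HH X (GG g F) p ≃+ Coh.HH X' G p :=
    AddEquiv.ofBijective (CohPull.pushEdge g G p) (CohPullLib.pushEdge_bijective_of_isAffineHom g G p)
  refine ⟨(e F ‹_›).trans jA.toLinearEquiv.symm.toAddEquiv,
    (E.symm.trans (e (GG g F) hq)).trans jB.toLinearEquiv.symm.toAddEquiv, ?_, ?_, ?_⟩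
  · intro a x
    exact (congrArg jA.toLinearEquiv.symm (he F ‹_› a x)).trans (map_smul _ _ _)
  · intro x
    have h1 : E.symm (CohPull.pullMod g F p x) = CohPull.mapH η p x := by
      rw [AddEquiv.symm_apply_eq]
      exact CohPullLib.pullMod_eq_pushEdge g F p x
    have h2 : (CohIII.TFun (cx f U F) p).map oneB ≫ jB.hom =
        jA.hom ≫ HomologicalComplex.homologyMap (cxMap f U η) p := by
      show HomologicalComplex.homologyMap _ p ≫ HomologicalComplex.homologyMap _ p =
        HomologicalComplex.homologyMap _ p ≫ HomologicalComplex.homologyMap _ p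
      rw [← HomologicalComplex.homologyMap_comp, ← HomologicalComplex.homologyMap_comp]
      exact congrArg (fun t => HomologicalComplex.homologyMap t p) (tensorBIso_one f f' g H F U haff)
    show jB.toLinearEquiv.symm (e (GG g F) hq (E.symm (CohPull.pullMod g F p x))) = _
    rw [h1, LinearEquiv.symm_apply_eq]
    refine (hnat η ‹_› hq x).trans ?_
    have h3 := ConcreteCategory.congr_hom h2 (jA.toLinearEquiv.symm (e F ‹_› x))
    refine Eq.trans ?_ h3.symm
    exact congrArg (HomologicalComplex.homologyMap (cxMap f U η) p)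
      (jA.toLinearEquiv.apply_symm_apply (e F ‹_› x)).symm
  · intro b y
    letI := modHH f' G p
    have h1 : E.symm (b • y) = CohPull.mapH (mulG f' g F b) p (E.symm y) := by
      rw [AddEquiv.symm_apply_eq]
      refine Eq.trans ?_ (CohPullLib.pushEdge_natural g (Formal.smulModΓ G (Coh.toGlobal f' b)) p (E.symm y)).symm
      exact congrArg (CohPull.mapH (Formal.smulModΓ G (Coh.toGlobal f' b)) p) (E.apply_symm_apply y).symm
    have h2 : (CohIII.TFun (cx f U F) p).map (mulB b) ≫ jB.hom =
        jB.hom ≫ HomologicalComplex.homologyMap (cxMap f U (mulG f' g F b)) p := by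
      show HomologicalComplex.homologyMap _ p ≫ HomologicalComplex.homologyMap _ p =
        HomologicalComplex.homologyMap _ p ≫ HomologicalComplex.homologyMap _ p
      rw [← HomologicalComplex.homologyMap_comp, ← HomologicalComplex.homologyMap_comp]
      exact congrArg (fun t => HomologicalComplex.homologyMap t p) (tensorBIso_mul f f' g H F U haff b)
    show jB.toLinearEquiv.symm (e (GG g F) hq (E.symm (b • y))) = _
    rw [h1, LinearEquiv.symm_apply_eq]
    refine (hnat (mulG f' g F b) hq hq (E.symm y)).trans ?_
    have h3 := ConcreteCategory.congr_hom h2 (jB.toLinearEquiv.symm (e (GG g F) hq (E.symm y)))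
    refine Eq.trans ?_ h3.symm
    exact congrArg (HomologicalComplex.homologyMap (cxMap f U (mulG f' g F b)) p)
      (jB.toLinearEquiv.apply_symm_apply (e (GG g F) hq (E.symm y))).symm

/-- The cohomology of the base change is a module over `A`. -/
@[instance_reducible] noncomputable def modA : Module A (Coh.HH X' ((Scheme.Modules.pullback g).obj F) p) :=
  letI := modHH f' ((Scheme.Modules.pullback g).obj F) p
  Module.compHom _ (algebraMap A B)

include H hcov haff in
/-- **The base change map of cohomology classes is the comparison map of the complex.** -/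
theorem exists_comparison :
    letI := modHH f F p
    letI := modHH f' ((Scheme.Modules.pullback g).obj F) p
    letI := modA f' g F p (A := A)
    haveI : IsScalarTower A B (Coh.HH X' ((Scheme.Modules.pullback g).obj F) p) :=
      IsScalarTower.of_algebraMap_smul fun _ _ => rfl
    ∃ P : Coh.HH X F p →ₗ[A] Coh.HH X' ((Scheme.Modules.pullback g).obj F) p,
      (∀ x, P x = CohPull.pullMod g F p x) ∧
      (Function.Surjective (P.liftBaseChange B) ↔
        Function.Surjective (cmpT (cx f U F) p (ModuleCat.of A B))) ∧
      (Function.Bijective (P.liftBaseChange B) ↔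
        Function.Bijective (cmpT (cx f U F) p (ModuleCat.of A B))) := by
  letI := modHH f F p
  letI := modHH f' ((Scheme.Modules.pullback g).obj F) p
  letI := modA f' g F p (A := A)
  haveI : IsScalarTower A B (Coh.HH X' ((Scheme.Modules.pullback g).obj F) p) :=
    IsScalarTower.of_algebraMap_smul fun _ _ => rfl
  obtain ⟨eA, eB, hA, hP, hB⟩ := exists_equivs f f' g H F U hcov haff p
  let T := CohIII.TFun (cx f U F) p
  have hcomp : ∀ (b : B) t, (T.map (mulB b)).hom ((T.map oneB).hom t) =
      (T.map (smulTo (ModuleCat.of A B) b)).hom t := fun b t => by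
    have e : oneB ≫ mulB b = smulTo (ModuleCat.of A B) b :=
      ModuleCat.hom_ext (LinearMap.ext fun a => by simp [oneB, mulB, smulTo])
    rw [← e, T.map_comp]
    rfl
  have hkey : ∀ (b : B) x, eB (b • CohPull.pullMod g F p x) =
      (T.map (smulTo (ModuleCat.of A B) b)).hom (eA x) := fun b x => by
    rw [hB, hP]
    exact hcomp b (eA x)
  have hlin : ∀ (a : A) x, CohPull.pullMod g F p (a • x) = algebraMap A B a • CohPull.pullMod g F p x := by
    intro a x
    apply eB.injective
    rw [hP, hkey, hA]
    refine (cmpT_tmul (cx f U F) p (ModuleCat.of A B) (a • eA x) 1).symm.trans ?_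
    refine Eq.trans ?_ (cmpT_tmul (cx f U F) p (ModuleCat.of A B) (eA x) (algebraMap A B a))
    exact congrArg (cmpT (cx f U F) p (ModuleCat.of A B))
      ((TensorProduct.smul_tmul a (eA x) (1 : B)).trans
        (congrArg (fun r : B => eA x ⊗ₜ[A] r) (Algebra.algebraMap_eq_smul_one a).symm))
  let P : Coh.HH X F p →ₗ[A] Coh.HH X' ((Scheme.Modules.pullback g).obj F) p :=
    { toFun := CohPull.pullMod g F p, map_add' := map_add _, map_smul' := hlin }
  let eA' : Coh.HH X F p ≃ₗ[A] CohIII.T (cx f U F) p (ModuleCat.of A A) := eA.toLinearEquiv hA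
  let c : B ⊗[A] Coh.HH X F p ≃ₗ[A] CohIII.T (cx f U F) p (ModuleCat.of A A) ⊗[A] B :=
    (TensorProduct.comm A B _).trans (LinearEquiv.rTensor B eA')
  have hc : ∀ z, eB (P.liftBaseChange B z) = cmpT (cx f U F) p (ModuleCat.of A B) (c z) := fun z => by
    induction z using TensorProduct.induction_on with
    | zero => simp only [map_zero]
    | add z w hz hw => simp only [map_add, hz, hw]
    | tmul b x =>
      rw [LinearMap.liftBaseChange_tmul]
      exact (hkey b x).trans (cmpT_tmul (cx f U F) p (ModuleCat.of A B) (eA x) b).symm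
  have hc' : ⇑eB ∘ ⇑(P.liftBaseChange B) = ⇑(cmpT (cx f U F) p (ModuleCat.of A B)) ∘ ⇑c := funext hc
  refine ⟨P, fun x => rfl, ?_, ?_⟩
  · rw [← EquivLike.comp_surjective (⇑(P.liftBaseChange B)) eB, hc',
      Function.Surjective.of_comp_iff _ c.surjective]
  · rw [← Function.Bijective.of_comp_iff' eB.bijective (⇑(P.liftBaseChange B)), hc',
      Function.Bijective.of_comp_iff _ c.bijective]

end GrothLib.BCCrit
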