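import Groth.Agent.Lib.BCCrit.OverBaseAlg
import Groth.Agent.Lib.BCCoh.Core
import Groth.Agent.Lib.Cohom.Vanishing

/-! # The Cech complex over a smaller base ring -/

set_option autoImplicit false
set_option linter.style.haveILetI false
set_option maxHeartbeats 1000000
universe u

open CategoryTheory CategoryTheory.Limits AlgebraicGeometry Opposite TopologicalSpace TensorProduct MonoidalCategory

namespace GrothLib.BCCrit

open GrothLib.BCCoh

variable {R A : Type u} [CommRing R] [CommRing A] [Algebra R A] {X : Scheme.{u}}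
  (f : X ⟶ Spec (CommRingCat.of A)) (F : X.Modules)

/-- The structure map to the smaller base. -/
noncomputable abbrev baseR : X ⟶ Spec (CommRingCat.of R) :=
  f ≫ Spec.map (CommRingCat.ofHom (algebraMap R A))

theorem toGlobal_baseR (r : R) : Coh.toGlobal (baseR f) r = Coh.toGlobal f (algebraMap R A r) := by
  show ((Scheme.ΓSpecIso (CommRingCat.of R)).inv ≫ (baseR f).appTop).hom r =
    ((CommRingCat.ofHom (algebraMap R A) ≫ (Scheme.ΓSpecIso (CommRingCat.of A)).inv) ≫ f.appTop).hom r
  rw [Scheme.ΓSpecIso_inv_naturality, Category.assoc, Scheme.Hom.comp_appTop]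

theorem psiR_baseR (V : X.Opens) (r : R) : psiR (baseR f) V r = psiR f V (algebraMap R A r) :=
  congrArg (Coh.resTop X (op V)) (toGlobal_baseR f r)

theorem modHH_baseR (p : ℕ) (r : R) (x : Coh.HH X F p) :
    letI := modHH (baseR (R := R) f) F p
    letI := modHH f F p
    r • x = algebraMap R A r • x :=
  congrArg (fun t => Sheaf.H.map (Coh.smulAb F t) p x) (toGlobal_baseR f r)

theorem secA_baseR_smul (V : X.Opens) (r : R) (s : secA (baseR (R := R) f) F V) :
    r • s = (show secA (baseR (R := R) f) F V from algebraMap R A r • (show secA f F V from s)) :=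
  congrArg (fun t : X.ringCatSheaf.obj.obj (op V) => t • (show F.val.obj (op V) from s)) (psiR_baseR f V r)

variable {ι : Type u} (U : ι → X.Opens)

theorem high_cx [Finite ι] [F.IsQuasicoherent] [CompactSpace X] [X.IsSeparated] (hcov : iSup U = ⊤)
    (haff : ∀ (n : ℕ) (a : Fin (n + 1) → ι), IsAffineOpen (⨅ k, U (a k))) :
    ∃ b : ℕ, ∀ (M : ModuleCat.{u} A) (n : ℕ), b ≤ n → IsZero (CohIII.T (cx f U F) n M) := by
  haveI : QuasiSeparatedSpace X := inferInstance
  obtain ⟨d, hd⟩ := Cohom.exists_vanishFrom_of_isCompact (X := X) (V := ⊤) (by simpa using isCompact_univ)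
  refine ⟨d, fun M n hn => ?_⟩
  obtain ⟨e, -, -⟩ := exists_linearEquiv f U hcov haff n
  haveI := isQuasicoherent_TF f F M
  haveI := (hd ((TF f F).obj M)).subsingleton_HH (n := n) hn
  haveI : Subsingleton ((cx f U ((TF f F).obj M)).homology n) :=
    (e ((TF f F).obj M) inferInstance).toEquiv.symm.subsingleton
  exact (ModuleCat.isZero_of_subsingleton _).of_iso
    (HomologicalComplex.homologyMapIso (tensorIso f F U haff M) n)

/-- **Base change of the Cech complex along a pushout of the smaller base**, when sections and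
cohomology are flat over it. -/
theorem bijective_cmpT_cx [Finite ι] [F.IsQuasicoherent] [CompactSpace X] [X.IsSeparated] (hcov : iSup U = ⊤)
    (haff : ∀ (n : ℕ) (a : Fin (n + 1) → ι), IsAffineOpen (⨅ k, U (a k)))
    (hfl : ∀ V : X.Opens, IsAffineOpen V → Module.Flat R (secA (baseR (R := R) f) F V))
    (hH : ∀ p : ℕ, letI := modHH (baseR (R := R) f) F p; Module.Flat R (Coh.HH X F p))
    {R' B : Type u} [CommRing R'] [CommRing B] [Algebra R R'] [Algebra A B] [Algebra R' B] [Algebra R B]
    [IsScalarTower R A B] [IsScalarTower R R' B] [Algebra.IsPushout R R' A B] (p : ℕ) :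
    Function.Bijective (cmpT (cx f U F) p (ModuleCat.of A B)) := by
  let fR := baseR (R := R) f
  let K := cx fR U F
  haveI := Fintype.ofFinite ι
  haveI hK : ∀ n, Module.Flat R (K.X n) := fun n => by
    haveI := Fintype.ofFinite (Fin (n + 1) → ι)
    haveI : ∀ a : Fin (n + 1) → ι, Module.Flat R (secA fR F (W U a)) :=
      fun a => hfl _ (isAffineOpen_W U haff a)
    exact GrothLib.Rigidity.flat_pi _
  obtain ⟨b, hb⟩ := high_cx fR F U hcov haff
  have hhom : ∀ n, Module.Flat R (K.homology n) := fun n => by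
    obtain ⟨e, he, -⟩ := exists_linearEquiv fR U hcov haff n
    letI := modHH fR F n
    haveI := hH n
    exact Module.Flat.of_linearEquiv ((e F ‹_›).toLinearEquiv (he F ‹_›)).symm
  have hQ := flat_coker_nat K b hb hhom (p + 1)
  rw [(ComplexShape.up ℕ).prev_eq' (show (ComplexShape.up ℕ).Rel p (p + 1) by simp)] at hQ
  letI modR : ∀ k, Module R ((cx f U F).X k) := fun k => (inferInstance : Module R (K.X k))
  haveI : ∀ k, Module.Flat R ((cx f U F).X k) := fun k => hK k
  haveI : ∀ k, IsScalarTower R A ((cx f U F).X k) := fun k => IsScalarTower.of_algebraMap_smul fun r y =>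
    funext fun a => (secA_baseR_smul f F (W U a) r _).symm
  refine bijective_cmpT_pushout (R := R) (R' := R') (cx f U F) p ?_
  rw [(ComplexShape.up ℕ).next_eq' (show (ComplexShape.up ℕ).Rel p (p + 1) by simp)]
  have hd : ∀ z, (cxd f U F p).hom z = (show (cx f U F).X (p + 1) from (cxd fR U F p).hom z) := fun z =>
    funext fun a => (cxd_apply f U F p z a).trans (cxd_apply fR U F p z a).symm
  have hr : (LinearMap.range ((cx f U F).d p (p + 1)).hom).restrictScalars R =
      LinearMap.range (K.d p (p + 1)).hom := by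
    rw [cx_d, cx_d]
    refine SetLike.ext fun y => ?_
    rw [Submodule.restrictScalars_mem, LinearMap.mem_range]
    show _ ↔ ∃ z, (cxd fR U F p).hom z = (show cxX fR U F (p + 1) from y)
    exact ⟨fun ⟨z, hz⟩ => ⟨z, (hd z).symm.trans hz⟩, fun ⟨z, hz⟩ => ⟨z, (hd z).trans hz⟩⟩
  haveI : Module.Flat R ((cx f U F).X (p + 1) ⧸
      (LinearMap.range ((cx f U F).d p (p + 1)).hom).restrictScalars R) :=
    @Module.Flat.of_linearEquiv _ _ _ _ _ _ _ _ hQ
      (Submodule.quotEquivOfEq _ _ hr)
  exact Module.Flat.of_linearEquiv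
    ((Submodule.Quotient.restrictScalarsEquiv R (LinearMap.range ((cx f U F).d p (p + 1)).hom)).restrictScalars R).symm

end GrothLib.BCCrit
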