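import Groth.Agent.Lib.BCCrit.Glue
import Groth.Agent.Lib.BCCrit.OverBase
import Groth.Agent.Lib.BCCoh.ModelAffine
import Groth.Agent.Lib.QCoh.Filtration

/-! # Base change when the higher direct images are flat over the base -/

set_option autoImplicit false
set_option backward.isDefEq.respectTransparency false
set_option linter.style.haveILetI false
universe u

open CategoryTheory CategoryTheory.Limits AlgebraicGeometry Opposite TopologicalSpace TensorProduct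

namespace GrothLib.BCCrit

variable {X Y S : Scheme.{u}} {f : X ⟶ Y} (a : X ⟶ S) (b : Y ⟶ S) (hf : f ≫ b = a)
  {V : Y.Opens} (hV : IsAffineOpen V) {W : S.Opens} (hW : IsAffineOpen W) (eVW : V ≤ b ⁻¹ᵁ W) (F : X.Modules)

include hf in
theorem image_le (U : ((f ⁻¹ᵁ V : X.Opens) : Scheme.{u}).Opens) (eVW : V ≤ b ⁻¹ᵁ W) :
    (f ⁻¹ᵁ V).ι ''ᵁ U ≤ a ⁻¹ᵁ W := by
  rw [← hf, Scheme.Hom.comp_preimage]
  exact ((f ⁻¹ᵁ V).ι_image_le U).trans (f.preimage_mono eVW)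

include hf hW in
theorem flat_secA_baseR [F.IsQuasicoherent] (hF : FlatMod.IsFlatOver a F) {U : ((f ⁻¹ᵁ V : X.Opens) : Scheme.{u}).Opens}
    (hU : IsAffineOpen U) :
    letI : Algebra Γ(S, W) Γ(Y, V) := (b.appLE W V eVW).hom.toAlgebra
    Module.Flat Γ(S, W) (BCCoh.secA (baseR (R := Γ(S, W)) (BCCoh.affBase f hV)) (F.restrict (f ⁻¹ᵁ V).ι) U) := by
  letI : Algebra Γ(S, W) Γ(Y, V) := (b.appLE W V eVW).hom.toAlgebra
  let j := (f ⁻¹ᵁ V).ι
  let e := image_le a b hf U eVW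
  letI : Module Γ(S, W) Γ(F, j ''ᵁ U) := Module.compHom _ (a.appLE W (j ''ᵁ U) e).hom
  haveI : Module.Flat Γ(S, W) Γ(F, j ''ᵁ U) :=
    BCCoh.flat_sections a F hF (hU.image_of_isOpenImmersion j) hW e
  refine Module.Flat.of_linearEquiv (R := Γ(S, W)) (M := Γ(F, j ''ᵁ U))
    ({ toFun := fun s => (show Γ(F, j ''ᵁ U) from s)
       invFun := fun s => (show BCCoh.secA (baseR (R := Γ(S, W)) (BCCoh.affBase f hV)) (F.restrict j) U from s)
       left_inv := fun _ => rfl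
       right_inv := fun _ => rfl
       map_add' := fun _ _ => rfl
       map_smul' := fun r s => ?_ } :
      BCCoh.secA (baseR (R := Γ(S, W)) (BCCoh.affBase f hV)) (F.restrict j) U ≃ₗ[Γ(S, W)] Γ(F, j ''ᵁ U))
  refine Eq.trans (congrArg (fun t => (show Γ(F, j ''ᵁ U) from t))
    (secA_baseR_smul (BCCoh.affBase f hV) (F.restrict j) U r s)) ?_
  show (j.appIso U).inv ((BCCoh.affBase f hV).appLE ⊤ U le_top
      ((Scheme.ΓSpecIso Γ(Y, V)).inv (b.appLE W V eVW r))) • (show Γ(F, j ''ᵁ U) from s) =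
    a.appLE W (j ''ᵁ U) e r • (show Γ(F, j ''ᵁ U) from s)
  refine congrArg (fun t => t • (show Γ(F, j ''ᵁ U) from s)) ?_
  rw [BCCoh.appIso_inv_appLE f hV U]
  subst hf
  exact ConcreteCategory.congr_hom (Scheme.Hom.appLE_comp_appLE f b W V _ eVW ((f ⁻¹ᵁ V).ι_image_le U)) r

variable [HasInjectiveResolutions X.Modules] {Δ : RDer.DerivedLES (Scheme.Modules.pushforward f)}

include hV hW in
theorem flat_HH_baseR [QuasiCompact f] [IsSeparated f] [F.IsQuasicoherent] (E : CohCmp.SectCmp f Δ) (p : ℕ)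
    (hR : FlatMod.IsFlatOver b ((Coh.Rpush f p).obj F)) :
    letI : Algebra Γ(S, W) Γ(Y, V) := (b.appLE W V eVW).hom.toAlgebra
    letI := BCCoh.modHH (baseR (R := Γ(S, W)) (BCCoh.affBase f hV)) (F.restrict (f ⁻¹ᵁ V).ι) p
    Module.Flat Γ(S, W) (Coh.HH _ (F.restrict (f ⁻¹ᵁ V).ι) p) := by
  letI : Algebra Γ(S, W) Γ(Y, V) := (b.appLE W V eVW).hom.toAlgebra
  let M := F.restrict (f ⁻¹ᵁ V).ι
  letI := BCCoh.modHH (baseR (R := Γ(S, W)) (BCCoh.affBase f hV)) M p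
  let N := (Coh.Rpush f p).obj F
  haveI : N.IsQuasicoherent := Cohom.isQuasicoherent_Rpush f F p
  letI : Module Γ(S, W) Γ(N, V) := Module.compHom _ (b.appLE W V eVW).hom
  haveI : Module.Flat Γ(S, W) Γ(N, V) := BCCoh.flat_sections b N hR hV hW eVW
  exact Module.Flat.of_linearEquiv (M := Γ(N, V))
    ({ AddEquiv.ofBijective (E.ε V F p) (CohPullLib.eps_bijective f E F p hV) with
       map_smul' := fun r x => (congrArg (E.ε V F p) (modHH_baseR (BCCoh.affBase f hV) M p r x)).trans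
        (CohPullLib.eps_smul f E hV (b.appLE W V eVW r) p F x) } :
      Coh.HH _ M p ≃ₗ[Γ(S, W)] Γ(N, V))

include hf in
/-- **Base change when the higher direct images are flat over the base.** -/
theorem isIso_bc_of_flat [QuasiCompact f] [IsSeparated f] [F.IsQuasicoherent]
    (hF : FlatMod.IsFlatOver a F) (hR : ∀ n : ℕ, FlatMod.IsFlatOver b ((Coh.Rpush f n).obj F))
    {X' Y' S' : Scheme.{u}} (g : S' ⟶ S) (gY : Y' ⟶ Y) (b' : Y' ⟶ S') (hY : IsPullback gY b' b g)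
    (gX : X' ⟶ X) (f' : X' ⟶ Y') (hX : IsPullback gX f' f gY) [HasInjectiveResolutions X'.Modules]
    {Δ' : RDer.DerivedLES (Scheme.Modules.pushforward f')} (E : CohCmp.SectCmp f Δ) (E' : CohCmp.SectCmp f' Δ')
    (B : CohCmp.GenBC f gY f' gX hX.w E E') (n : ℕ) : IsIso (B.bc n F) := by
  haveI : IsSeparated f' := MorphismProperty.of_isPullback (P := @IsSeparated) hX ‹_›
  haveI : QuasiCompact f' := MorphismProperty.of_isPullback (P := @QuasiCompact) hX ‹_›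
  haveI : ((Scheme.Modules.pullback gX).obj F).IsQuasicoherent := FittSheaf.isQuasicoherent_pullback gX F
  haveI : ((Coh.Rpush f n).obj F).IsQuasicoherent := Cohom.isQuasicoherent_Rpush f F n
  haveI : ((Scheme.Modules.pullback gY).obj ((Coh.Rpush f n).obj F)).IsQuasicoherent :=
    FittSheaf.isQuasicoherent_pullback gY _
  haveI : ((Coh.Rpush f' n).obj ((Scheme.Modules.pullback gX).obj F)).IsQuasicoherent :=
    Cohom.isQuasicoherent_Rpush f' _ n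
  have hchoice : ∀ z : Y', ∃ (W : S.Opens) (W' : S'.Opens) (V : Y.Opens), IsAffineOpen W ∧ IsAffineOpen W' ∧
      IsAffineOpen V ∧ V ≤ b ⁻¹ᵁ W ∧ W' ≤ g ⁻¹ᵁ W ∧ z ∈ gY ⁻¹ᵁ V ⊓ b' ⁻¹ᵁ W' := fun z => by
    obtain ⟨W, hW, hzW, -⟩ := exists_isAffineOpen_mem_and_subset (show b (gY z) ∈ (⊤ : S.Opens) from trivial)
    obtain ⟨W', hW', hzW', eW⟩ := exists_isAffineOpen_mem_and_subset (show b' z ∈ g ⁻¹ᵁ W from by
      show g (b' z) ∈ W
      rw [← Scheme.Hom.comp_apply, ← hY.w, Scheme.Hom.comp_apply]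
      exact hzW)
    obtain ⟨V, hV, hzV, eV⟩ := exists_isAffineOpen_mem_and_subset (show gY z ∈ b ⁻¹ᵁ W from hzW)
    exact ⟨W, W', V, hW, hW', hV, eV, eW, hzV, hzW'⟩
  choose W W' V hW hW' hV eV eW hz using hchoice
  have haff : ∀ z, IsAffineOpen (gY ⁻¹ᵁ V z ⊓ b' ⁻¹ᵁ W' z) := fun z => by
    haveI : IsAffine (W z).toScheme := hW z
    haveI : IsAffine (W' z).toScheme := hW' z
    haveI : IsAffine (V z).toScheme := hV z
    exact .of_isIso (Scheme.Hom.isPullback_resLE hY (eW z) (eV z) rfl).isoPullback.hom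
  refine QCoh.isIso_of_bijective_on_cover (B.bc n F) (fun z => gY ⁻¹ᵁ V z ⊓ b' ⁻¹ᵁ W' z)
    (IsOpenCover.mk (top_le_iff.1 fun z _ => Opens.mem_iSup.2 ⟨z, hz z⟩)) haff fun z => ?_
  haveI : IsAffine (W z).toScheme := hW z
  haveI : IsAffine (W' z).toScheme := hW' z
  haveI : IsAffine (V z).toScheme := hV z
  let X₀ : Scheme.{u} := (f ⁻¹ᵁ V z : X.Opens)
  haveI : IsSeparated (BCCoh.affBase f (hV z)) := by
    haveI : IsSeparated (f ∣_ V z) := IsZariskiLocalAtTarget.restrict ‹IsSeparated f› (V z)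
    infer_instance
  haveI : QuasiCompact (BCCoh.affBase f (hV z)) := by
    haveI : QuasiCompact (f ∣_ V z) := IsZariskiLocalAtTarget.restrict ‹QuasiCompact f› (V z)
    infer_instance
  haveI : CompactSpace X₀ := QuasiCompact.compactSpace_of_compactSpace (BCCoh.affBase f (hV z))
  haveI : X₀.IsSeparated := ⟨by rw [← terminal.comp_from (BCCoh.affBase f (hV z))]; infer_instance⟩
  haveI : QuasiSeparatedSpace X₀ := inferInstance
  obtain ⟨κ, _, U, hU, -, hcov⟩ := QCoh.exists_finite_affine_cover (U := (⊤ : X₀.Opens))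
    (by simpa using isCompact_univ)
  have hcov' : iSup U = ⊤ := top_le_iff.1 hcov
  have hU' : ∀ (m : ℕ) (a : Fin (m + 1) → κ), IsAffineOpen (⨅ k, U (a k)) :=
    fun m a => IsAffineOpen.iInf fun k => hU (a k)
  refine (bijective_bc_app_iff hX B F n (hV z) (haff z) inf_le_left U hcov' hU').1.2 ?_
  let M := F.restrict (f ⁻¹ᵁ V z).ι
  haveI : M.IsQuasicoherent :=
    haveI := FittSheaf.isQuasicoherent_pullback (f ⁻¹ᵁ V z).ι F
    (SheafOfModules.isQuasicoherent (X₀ : Scheme.{u}).ringCatSheaf).prop_of_iso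
      ((Scheme.Modules.restrictFunctorIsoPullback (f ⁻¹ᵁ V z).ι).app F).symm this
  have hpo := (isIso_pushoutSection_iff hY (eW z) (eV z) rfl).1
    (isIso_pushoutSection_of_isAffineOpen hY (eW z) (eV z) rfl (hW z) (hW' z) (hV z))
  letI : Algebra Γ(S, W z) Γ(Y, V z) := (b.appLE (W z) (V z) (eV z)).hom.toAlgebra
  letI : Algebra Γ(S, W z) Γ(S', W' z) := (g.appLE (W z) (W' z) (eW z)).hom.toAlgebra
  letI : Algebra Γ(Y, V z) Γ(Y', gY ⁻¹ᵁ V z ⊓ b' ⁻¹ᵁ W' z) := (gY.appLE (V z) _ inf_le_left).hom.toAlgebra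
  letI : Algebra Γ(S', W' z) Γ(Y', gY ⁻¹ᵁ V z ⊓ b' ⁻¹ᵁ W' z) := (b'.appLE (W' z) _ inf_le_right).hom.toAlgebra
  letI : Algebra Γ(S, W z) Γ(Y', gY ⁻¹ᵁ V z ⊓ b' ⁻¹ᵁ W' z) :=
    ((gY.appLE (V z) (gY ⁻¹ᵁ V z ⊓ b' ⁻¹ᵁ W' z) inf_le_left).hom.comp (b.appLE (W z) (V z) (eV z)).hom).toAlgebra
  haveI : IsScalarTower Γ(S, W z) Γ(Y, V z) Γ(Y', gY ⁻¹ᵁ V z ⊓ b' ⁻¹ᵁ W' z) :=
    IsScalarTower.of_algebraMap_eq fun _ => rfl
  haveI : IsScalarTower Γ(S, W z) Γ(S', W' z) Γ(Y', gY ⁻¹ᵁ V z ⊓ b' ⁻¹ᵁ W' z) :=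
    IsScalarTower.of_algebraMap_eq fun t => congr($(hpo.w).hom t)
  haveI : Algebra.IsPushout Γ(S, W z) Γ(Y, V z) Γ(S', W' z) Γ(Y', gY ⁻¹ᵁ V z ⊓ b' ⁻¹ᵁ W' z) :=
    CommRingCat.isPushout_iff_isPushout.mp hpo
  haveI : Algebra.IsPushout Γ(S, W z) Γ(S', W' z) Γ(Y, V z) Γ(Y', gY ⁻¹ᵁ V z ⊓ b' ⁻¹ᵁ W' z) :=
    Algebra.IsPushout.symm inferInstance
  exact bijective_cmpT_cx (R := Γ(S, W z)) (BCCoh.affBase f (hV z)) M U hcov' hU'
    (fun U₁ hU₁ => flat_secA_baseR a b hf (hV z) (hW z) (eV z) F hF hU₁)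
    (fun p => flat_HH_baseR b (hV z) (hW z) (eV z) F E p (hR p)) (R' := Γ(S', W' z)) n

end GrothLib.BCCrit
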