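import Groth.Agent.Lib.Euler.LocFree

/-! # Frames of quasi-coherent modules with finitely presented sections -/

set_option autoImplicit false
set_option linter.style.haveILetI false
universe u

open CategoryTheory CategoryTheory.Limits AlgebraicGeometry TopologicalSpace Opposite

namespace GrothLib.BCCrit

open GrothLib.FinCov (IsFrame)
open GrothLib.WeakAss (primeAt germ_smul notMem_primeAt_iff)
open GrothLib.Euler (germ_sum_smul isFrame_of_stalk_basis)

variable {X : Scheme.{u}} {F : X.Modules} {n : ℕ}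

/-- A quasi-coherent module with finitely presented sections on an affine open and a basis of a
stalk there has a frame nearby. -/
theorem exists_frame_of_fp {x : X} [F.IsQuasicoherent] {V : X.Opens} (hV : IsAffineOpen V) (hxV : x ∈ V)
    [Module.FinitePresentation Γ(X, V) Γ(F, V)]
    (b : Module.Basis (Fin n) (X.presheaf.stalk x) (F.presheaf.stalk x)) :
    ∃ (D : X.Opens) (e : Fin n → Γ(F, D)), D ≤ V ∧ x ∈ D ∧ IsFrame F D e := by
  classical
  choose c z hc hz using fun i => WeakAss.exists_smul_eq_germ hV hxV (b i)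
  have hcu : ∀ i, IsUnit (X.presheaf.germ V x hxV (c i)) := fun i =>
    (Scheme.mem_basicOpen _ (c i) x hxV).mp (notMem_primeAt_iff.mp (hc i))
  have hcomb : ∀ a : Fin n → X.presheaf.stalk x, ∑ i, a i • F.presheaf.germ V x hxV (z i) =
      ∑ i, (a i * X.presheaf.germ V x hxV (c i)) • b i := fun a =>
    Finset.sum_congr rfl fun i _ => by rw [← hz i, smul_smul]
  let L : (Fin n → Γ(X, V)) →ₗ[Γ(X, V)] Γ(F, V) := Fintype.linearCombination Γ(X, V) z
  have hL : ∀ a, L a = ∑ i, a i • z i := fun a => Fintype.linearCombination_apply _ _ _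
  -- spanning
  obtain ⟨S, hS⟩ := (Module.Finite.fg_top : (⊤ : Submodule Γ(X, V) Γ(F, V)).FG)
  have hspan : ∀ t : Γ(F, V), ∃ d : Γ(X, V), d ∉ primeAt x hxV ∧ d • t ∈ LinearMap.range L := by
    intro t
    obtain ⟨β, hβ⟩ := b.equivFun.symm.surjective (F.presheaf.germ V x hxV t)
    rw [Module.Basis.equivFun_symm_apply] at hβ
    -- clear denominators
    have hden : ∀ i, ∃ (s : Γ(X, V)) (a : Γ(X, V)), s ∉ primeAt x hxV ∧
        X.presheaf.germ V x hxV s * β i = X.presheaf.germ V x hxV a * X.presheaf.germ V x hxV (c i) := by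
      intro i
      letI : Algebra Γ(X, V) (X.presheaf.stalk x) :=
        TopCat.Presheaf.algebra_section_stalk X.presheaf (⟨x, hxV⟩ : V)
      have hloc : IsLocalization.AtPrime (X.presheaf.stalk x) (hV.primeIdealOf ⟨x, hxV⟩).asIdeal :=
        hV.isLocalization_stalk ⟨x, hxV⟩
      obtain ⟨a, s, hw⟩ := IsLocalization.exists_mk'_eq (hV.primeIdealOf ⟨x, hxV⟩).asIdeal.primeCompl
        (β i * ↑(hcu i).unit⁻¹)
      refine ⟨(s : Γ(X, V)), a, ?_, ?_⟩
      · intro hm
        exact (IsLocalRing.mem_maximalIdeal _).1 hm (IsLocalization.map_units (X.presheaf.stalk x) s)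
      · have h1 := IsLocalization.mk'_spec (X.presheaf.stalk x) a s
        rw [hw] at h1
        change β i * ↑(hcu i).unit⁻¹ * X.presheaf.germ V x hxV (s : Γ(X, V)) = X.presheaf.germ V x hxV a at h1
        rw [← h1, mul_assoc (β i), mul_comm (↑(hcu i).unit⁻¹ : X.presheaf.stalk x), ← mul_assoc, mul_assoc _ _ (X.presheaf.germ V x hxV (c i)),
          IsUnit.val_inv_mul, mul_one, mul_comm]
    choose s a hs hsa using hden
    let S' := ∏ i, s i
    have hS' : S' ∉ primeAt x hxV := fun hm => by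
      obtain ⟨i, -, hi⟩ := Ideal.IsPrime.prod_mem_iff.1 hm
      exact hs i hi
    let A : Fin n → Γ(X, V) := fun i => (∏ k ∈ Finset.univ.erase i, s k) * a i
    have h0 : F.presheaf.germ V x hxV (S' • t - L A) = 0 := by
      rw [map_sub, sub_eq_zero, germ_smul, hL, germ_sum_smul, hcomb, ← hβ, Finset.smul_sum]
      refine Finset.sum_congr rfl fun i _ => ?_
      rw [smul_smul]
      congr 1
      simp only [A, S', map_mul]
      rw [mul_assoc, ← hsa i, ← mul_assoc, ← map_mul, Finset.prod_erase_mul _ _ (Finset.mem_univ i)]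
    obtain ⟨d, hd, hd0⟩ := (WeakAss.germ_eq_zero_iff hV hxV _).1 h0
    refine ⟨d * S', fun hm => ((inferInstance : (primeAt x hxV).IsPrime).mem_or_mem hm).elim hd hS', d • A, ?_⟩
    rw [map_smul, mul_smul]
    rw [smul_sub, sub_eq_zero] at hd0
    exact hd0.symm
  choose d hd hdt using hspan
  -- independence
  let G₀ : Γ(X, V) := ∏ t ∈ S, d t
  have hG₀ : ∀ t : S, G₀ • t.1 ∈ LinearMap.range L := fun t => by
    simp only [G₀]
    rw [← Finset.prod_erase_mul _ _ t.2, mul_smul]
    exact Submodule.smul_mem _ _ (hdt t.1)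
  choose at' hat using hG₀
  let L' : (Fin n → Γ(X, V)) × (S → Γ(X, V)) →ₗ[Γ(X, V)] Γ(F, V) :=
    L.coprod (Fintype.linearCombination Γ(X, V) fun t : S => t.1)
  let Φ : (Fin n → Γ(X, V)) × (S → Γ(X, V)) →ₗ[Γ(X, V)] (Fin n → Γ(X, V)) :=
    (G₀ • LinearMap.id).coprod (Fintype.linearCombination Γ(X, V) at')
  have hΦ : ∀ z, L (Φ z) = G₀ • L' z := fun z => by
    simp only [Φ, L', LinearMap.coprod_apply, Fintype.linearCombination_apply, map_add, map_sum, map_smul,
      smul_add, Finset.smul_sum, LinearMap.smul_apply, LinearMap.id_apply, hat]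
    exact congrArg _ (Finset.sum_congr rfl fun t _ => smul_comm _ _ _)
  have hsurj : Function.Surjective L' := by
    rw [← LinearMap.range_eq_top, eq_top_iff, ← hS, Submodule.span_le]
    intro t ht
    exact ⟨(0, Pi.single ⟨t, ht⟩ 1), by simp [L', Fintype.linearCombination_apply_single]⟩
  obtain ⟨K', hK'⟩ := Module.FinitePresentation.fg_ker L' hsurj
  let K : Finset (Fin n → Γ(X, V)) := K'.image Φ
  have hker : ∀ a ∈ K, ∃ q : Γ(X, V), q ∉ primeAt x hxV ∧ q • a = 0 := by
    intro a ha
    have hLa : L a = 0 := by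
      obtain ⟨w, hw, rfl⟩ := Finset.mem_image.1 ha
      have : w ∈ LinearMap.ker L' := hK' ▸ Submodule.subset_span hw
      rw [hΦ, LinearMap.mem_ker.1 this, smul_zero]
    have h0 := congrArg (F.presheaf.germ V x hxV) hLa
    rw [map_zero, hL, germ_sum_smul, hcomb] at h0
    have hz0 : ∀ i, X.presheaf.germ V x hxV (a i) = 0 := fun i => by
      have := Fintype.linearIndependent_iff.1 b.linearIndependent _ h0 i
      exact ((hcu i).mul_left_eq_zero).1 this
    have : ∀ i, ∃ q : Γ(X, V), q ∉ primeAt x hxV ∧ q * a i = 0 := fun i => by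
      letI : Algebra Γ(X, V) (X.presheaf.stalk x) :=
        TopCat.Presheaf.algebra_section_stalk X.presheaf (⟨x, hxV⟩ : V)
      have hloc : IsLocalization.AtPrime (X.presheaf.stalk x) (hV.primeIdealOf ⟨x, hxV⟩).asIdeal :=
        hV.isLocalization_stalk ⟨x, hxV⟩
      obtain ⟨q, hq⟩ := (IsLocalization.map_eq_zero_iff (hV.primeIdealOf ⟨x, hxV⟩).asIdeal.primeCompl
        (X.presheaf.stalk x) (a i)).1 (hz0 i)
      exact ⟨q, fun hm => (IsLocalRing.mem_maximalIdeal _).1 hm (IsLocalization.map_units (X.presheaf.stalk x) q), hq⟩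
    choose q hq hqa using this
    refine ⟨∏ i, q i, fun hm => ?_, funext fun i => ?_⟩
    · obtain ⟨i, -, hi⟩ := Ideal.IsPrime.prod_mem_iff.1 hm
      exact hq i hi
    · rw [Pi.smul_apply, smul_eq_mul, ← Finset.prod_erase_mul _ _ (Finset.mem_univ i), mul_assoc, hqa, mul_zero]
      rfl
  choose q hq hqa using hker
  let g : Γ(X, V) := (∏ t ∈ S, d t) * ∏ a ∈ K.attach, q a.1 a.2
  have hg : g ∉ primeAt x hxV := fun hm => by
    rcases (inferInstance : (primeAt x hxV).IsPrime).mem_or_mem hm with h | h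
    · obtain ⟨t, -, ht⟩ := Ideal.IsPrime.prod_mem_iff.1 h; exact hd t ht
    · obtain ⟨a, -, ha⟩ := Ideal.IsPrime.prod_mem_iff.1 h; exact hq a.1 a.2 ha
  have hgS : ∀ t ∈ S, g • t ∈ LinearMap.range L := fun t ht => by
    simp only [g]
    rw [← Finset.prod_erase_mul _ _ ht, mul_comm (∏ x ∈ S.erase t, d x), mul_assoc, mul_comm, mul_smul]
    exact Submodule.smul_mem _ _ (hdt t)
  let Q : Γ(X, V) := ∏ a ∈ K.attach, q a.1 a.2
  have hQ : ∀ a ∈ K, Q • a = 0 := fun a ha => by
    simp only [Q]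
    rw [← Finset.prod_erase_mul _ _ (Finset.mem_attach K ⟨a, ha⟩), mul_smul, hqa a ha, smul_zero]
  have hQ' : LinearMap.ker L' ≤ LinearMap.ker (Q • Φ) := by
    rw [← hK', Submodule.span_le]
    exact fun w hw => hQ _ (Finset.mem_image_of_mem Φ hw)
  have hgK : ∀ a : Fin n → Γ(X, V), L a = 0 → g • a = 0 := by
    intro a ha
    have h1 : (a, (0 : S → Γ(X, V))) ∈ LinearMap.ker L' := by simp [L', ha]
    have h2 := hQ' h1
    have h3 : Φ (a, 0) = G₀ • a := by simp [Φ]
    rw [LinearMap.mem_ker, LinearMap.smul_apply, h3, smul_smul, mul_comm] at h2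
    exact h2
  let D := X.basicOpen g
  refine ⟨D, fun i => F.presheaf.map (homOfLE (X.basicOpen_le g)).op (z i), X.basicOpen_le g, notMem_primeAt_iff.mp hg,
    isFrame_of_stalk_basis fun y hy => ?_⟩
  have hyV : y ∈ V := X.basicOpen_le g hy
  have hgu : IsUnit (X.presheaf.germ V y hyV g) := (Scheme.mem_basicOpen _ g y hyV).mp hy
  simp only [TopCat.Presheaf.germ_res_apply]
  letI : Algebra Γ(X, V) (X.presheaf.stalk y) :=
    TopCat.Presheaf.algebra_section_stalk X.presheaf (⟨y, hyV⟩ : V)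
  haveI hloc : IsLocalization.AtPrime (X.presheaf.stalk y) (hV.primeIdealOf ⟨y, hyV⟩).asIdeal :=
    hV.isLocalization_stalk ⟨y, hyV⟩
  constructor
  · intro α β hαβ
    rw [← sub_eq_zero] at hαβ ⊢
    rw [← Finset.sum_sub_distrib] at hαβ
    simp only [← sub_smul] at hαβ
    funext i
    obtain ⟨s, hs⟩ := IsLocalization.exist_integer_multiples_of_finite
      (hV.primeIdealOf ⟨y, hyV⟩).asIdeal.primeCompl (α - β)
    choose a ha using hs
    have hsu : IsUnit (X.presheaf.germ V y hyV (s : Γ(X, V))) := IsLocalization.map_units (X.presheaf.stalk y) s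
    have ha' : ∀ i, X.presheaf.germ V y hyV (a i) = X.presheaf.germ V y hyV (s : Γ(X, V)) * (α i - β i) := ha
    have h0 : F.presheaf.germ V y hyV (L a) = 0 := by
      rw [hL, germ_sum_smul]
      simp only [ha', mul_smul]
      rw [← Finset.smul_sum, hαβ, smul_zero]
    obtain ⟨p, hp, hp0⟩ := (WeakAss.germ_eq_zero_iff hV hyV _).1 h0
    rw [← map_smul] at hp0
    have hz := congrFun (hgK _ hp0) i
    have hpu : IsUnit (X.presheaf.germ V y hyV p) := (Scheme.mem_basicOpen _ p y hyV).mp (notMem_primeAt_iff.mp hp)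
    have := congrArg (X.presheaf.germ V y hyV) hz
    simp only [Pi.smul_apply, smul_eq_mul, map_mul, ha', Pi.zero_apply, map_zero] at this
    exact hsu.mul_right_eq_zero.1 (hpu.mul_right_eq_zero.1 (hgu.mul_right_eq_zero.1 this))
  · intro m
    obtain ⟨p, t, hp, hpt⟩ := WeakAss.exists_smul_eq_germ hV hyV m
    have hpu : IsUnit (X.presheaf.germ V y hyV p) := (Scheme.mem_basicOpen _ p y hyV).mp (notMem_primeAt_iff.mp hp)
    have hgt' : ∀ t : Γ(F, V), g • t ∈ LinearMap.range L := fun t => by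
      clear hpt
      have ht : t ∈ Submodule.span Γ(X, V) (S : Set Γ(F, V)) := hS.symm ▸ Submodule.mem_top
      induction ht using Submodule.span_induction with
      | mem w hw => exact hgS w hw
      | zero => rw [smul_zero]; exact zero_mem _
      | add u v _ _ iu iv => rw [smul_add]; exact add_mem iu iv
      | smul r u _ iu => rw [smul_comm]; exact Submodule.smul_mem _ r iu
    obtain ⟨a, ha⟩ := hgt' t
    refine ⟨fun i => ↑(hgu.mul hpu).unit⁻¹ * X.presheaf.germ V y hyV (a i), ?_⟩
    have h1 := congrArg (F.presheaf.germ V y hyV) ha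
    rw [hL, germ_sum_smul, germ_smul, ← hpt, smul_smul] at h1
    simp only [mul_smul]
    rw [← Finset.smul_sum, h1, ← mul_smul, IsUnit.val_inv_mul, one_smul]

end GrothLib.BCCrit
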