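import Groth.Agent.Lib.BCCrit.LocalFree
import Groth.Agent.Lib.OX.FlatLocFree
import Groth.Agent.Lib.OX.SingleDegree

/-! # Base change and local freeness from pointwise freeness of cokernels -/

set_option autoImplicit false
set_option linter.style.haveILetI false
set_option backward.isDefEq.respectTransparency false
set_option maxHeartbeats 2000000
universe u

noncomputable section

open CategoryTheory CategoryTheory.Limits AlgebraicGeometry Opposite TopologicalSpace

namespace GrothLib.BCCrit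

open GrothLib.BCCoh

variable {X S : Scheme.{u}} (f : X ⟶ S) (F : X.Modules)

/-- Some model over an affine neighbourhood of the point has a free cokernel leaving degree `p`. -/
def GoodAt (p : ℤ) (s : S) : Prop :=
  ∃ (V : S.Opens) (hV : IsAffineOpen V) (hs : s ∈ V) (m : Model (affBase f hV) (F.restrict (f ⁻¹ᵁ V).ι)),
    Good m.L p (hV.primeIdealOf ⟨s, hs⟩)

variable {f F} [F.IsQuasicoherent] [IsProper f] [HasInjectiveResolutions X.Modules]

/-- **Base change over an open where the cokernels are free.** -/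
theorem isIso_bc_of_goodAt (p : ℕ) (U : S.Opens) (h : ∀ s ∈ U, GoodAt f F (p : ℤ) s) {S' X' : Scheme.{u}}
    [HasInjectiveResolutions X'.Modules] {g₀ : S' ⟶ S} {f' : X' ⟶ S'} {g' : X' ⟶ X}
    {Δ : RDer.DerivedLES (Scheme.Modules.pushforward f)} {Δ' : RDer.DerivedLES (Scheme.Modules.pushforward f')}
    {E : CohCmp.SectCmp f Δ} {E' : CohCmp.SectCmp f' Δ'} (hsq : IsPullback g' f' f g₀)
    (B : CohCmp.GenBC f g₀ f' g' hsq.w E E') (hU : ∀ z : S', g₀ z ∈ U) : IsIso (B.bc p F) := by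
  haveI : IsProper f' := MorphismProperty.of_isPullback (P := @IsProper) hsq ‹_›
  haveI : ((Scheme.Modules.pullback g').obj F).IsQuasicoherent := FittSheaf.isQuasicoherent_pullback g' F
  haveI : ((Coh.Rpush f p).obj F).IsQuasicoherent := Cohom.isQuasicoherent_Rpush f F p
  haveI : ((Scheme.Modules.pullback g₀).obj ((Coh.Rpush f p).obj F)).IsQuasicoherent :=
    FittSheaf.isQuasicoherent_pullback g₀ _
  haveI : ((Coh.Rpush f' p).obj ((Scheme.Modules.pullback g').obj F)).IsQuasicoherent :=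
    Cohom.isQuasicoherent_Rpush f' _ p
  have hch : ∀ z : S', ∃ V' : S'.Opens, z ∈ V' ∧ IsAffineOpen V' ∧ Function.Bijective ((B.bc p F).app V') := fun z => by
    obtain ⟨V, hV, hs, m, hm⟩ := h (g₀ z) (hU z)
    obtain ⟨a, ha, hb⟩ := exists_isIso_bc_of_good m p hs hm
    obtain ⟨V', hV', hz, hle⟩ := exists_isAffineOpen_mem_and_subset (show z ∈ g₀ ⁻¹ᵁ S.basicOpen a from ha)
    exact ⟨V', hz, hV', hb hsq B hV' hle⟩
  choose W hzW hW hb using hch
  exact QCoh.isIso_of_bijective_on_cover (B.bc p F) W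
    (top_le_iff.1 fun z _ => Opens.mem_iSup.2 ⟨z, hzW z⟩) hW hb

theorem isZero_freeMod_zero (Y : Scheme.{u}) : IsZero (FlatMod.freeMod Y 0) := by
  rw [IsZero.iff_id_eq_zero]
  exact Sigma.hom_ext _ _ fun i => Fin.elim0 i

/-- A module is zero on an open covered by opens on which it is free of rank zero. -/
theorem isZero_restrict_of_free_zero (N : S.Modules) (U : S.Opens)
    (h : ∀ y ∈ U, ∃ W : S.Opens, y ∈ W ∧ Nonempty (N.restrict W.ι ≅ FlatMod.freeMod (↑W) 0)) :
    IsZero (N.restrict U.ι) := by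
  rw [OX.isZero_iff]
  intro y
  obtain ⟨W, hyW, ⟨φ⟩⟩ := h (U.ι y) y.2
  obtain ⟨e, he⟩ := FinCov.exists_frame_of_iso φ
  have hy' : U.ι y ∈ W.ι ''ᵁ ⊤ := by rw [Scheme.Opens.ι_image_top]; exact hyW
  haveI : Subsingleton (N.presheaf.stalk (U.ι y)) := (Ref1.stalk_of_isFrame he (U.ι y) hy').2.subsingleton
  have hz : IsZero ((OX.stalk (U.ι y)).obj N) := by
    refine @ModuleCat.isZero_of_subsingleton _ _ _ ?_
    exact ‹Subsingleton (N.presheaf.stalk (U.ι y))›
  exact ((ModuleCat.extendScalars (U.ι.stalkMap y).hom).map_isZero hz).of_iso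
    ((OX.restrictStalkExtIso U.ι y).app N)

/-- Freeness of the restriction to an open near a point gives freeness of the module near it. -/
theorem exists_free_of_isFinLocFree_restrict {N : S.Modules} {V : S.Opens}
    (h : FlatMod.IsFinLocFree (N.restrict V.ι)) {s : S} (hs : s ∈ V) :
    ∃ (W : S.Opens) (n : ℕ), s ∈ W ∧ Nonempty (N.restrict W.ι ≅ FlatMod.freeMod (↑W) n) := by
  obtain ⟨U', n, hy, ⟨φ⟩⟩ := h ⟨s, hs⟩
  refine ⟨V.ι ''ᵁ U', n, ⟨⟨s, hs⟩, hy, rfl⟩, ⟨?_⟩⟩
  let k := (V.ι.isoImage U').inv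
  exact (Scheme.Modules.restrictFunctorCongr (V.ι.isoImage_inv_ι U').symm).app N ≪≫
    (Scheme.Modules.restrictFunctorComp k (U'.ι ≫ V.ι)).app N ≪≫
    (Scheme.Modules.restrictFunctor k).mapIso ((Scheme.Modules.restrictFunctorComp U'.ι V.ι).app N ≪≫ φ) ≪≫
    DCoh.restrictFreeModIso _ _

theorem isFinLocFree_of_free_near (N : S.Modules) (U : S.Opens)
    (h : ∀ y ∈ U, ∃ (W : S.Opens) (n : ℕ), y ∈ W ∧ Nonempty (N.restrict W.ι ≅ FlatMod.freeMod (↑W) n)) :
    FlatMod.IsFinLocFree (N.restrict U.ι) := fun y => by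
  obtain ⟨W, n, hy, ⟨φ⟩⟩ := h y.1 y.2
  let W' : (U : Scheme.{u}).Opens := U.ι ⁻¹ᵁ W
  let k : (W' : Scheme.{u}) ⟶ (W : Scheme.{u}) :=
    IsOpenImmersion.lift W.ι (W'.ι ≫ U.ι) (by
      rintro _ ⟨z, rfl⟩
      rw [Scheme.Opens.range_ι]
      exact z.2)
  haveI : IsOpenImmersion k := by
    haveI : IsOpenImmersion (k ≫ W.ι) := by
      rw [IsOpenImmersion.lift_fac]; infer_instance
    exact IsOpenImmersion.of_comp k W.ι
  exact ⟨W', n, hy, ⟨((Scheme.Modules.restrictFunctorComp W'.ι U.ι).app N).symm ≪≫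
    (Scheme.Modules.restrictFunctorCongr (IsOpenImmersion.lift_fac W.ι (W'.ι ≫ U.ι) _).symm).app N ≪≫
    (Scheme.Modules.restrictFunctorComp k W.ι).app N ≪≫
    (Scheme.Modules.restrictFunctor k).mapIso φ ≪≫ DCoh.restrictFreeModIso _ _⟩⟩

end GrothLib.BCCrit
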