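import Groth.Agent.Lib.BCCrit.Criterion
import Groth.Agent.Lib.CohPullLib.Comp
import Groth.Agent.Lib.CohPullLib.Model
import Groth.Agent.Lib.CohPullLib.Linear
import Groth.Agent.Lib.Cohom.RpushModules

/-! # The base change map on affine opens is the comparison map of a Cech complex -/

set_option autoImplicit false
set_option backward.isDefEq.respectTransparency false
set_option linter.style.haveILetI false
universe u

open CategoryTheory CategoryTheory.Limits AlgebraicGeometry Opposite TopologicalSpace TensorProduct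
open GrothLib.BCCoh (pullRes)

namespace GrothLib.BCCrit

section Abstract

variable {W₀ W₁ W₂ : Scheme.{u}}

theorem eq_mapH_inv {M N : W₂.Modules} (a : M ≅ N) {p : ℕ} {u : Coh.HH W₂ M p} {v : Coh.HH W₂ N p}
    (h : CohPull.mapH a.hom p u = v) : u = CohPull.mapH a.inv p v := by
  subst h
  exact ((CohPullLib.mapH_id p u).symm.trans
    (congrArg (fun t => CohPull.mapH t p u) a.hom_inv_id.symm)).trans (CohPullLib.mapH_comp a.hom a.inv p u)

/-- Two successive pullbacks of classes with identifications are one pullback with an identification. -/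
theorem exists_pull_pull (k : W₂ ⟶ W₁) (r₁ : W₁ ⟶ W₀) (r₂ : W₂ ⟶ W₀) (hk : k ≫ r₁ = r₂) (M : W₀.Modules)
    {G₁ : W₁.Modules} {G₂ : W₂.Modules} (φ : (Scheme.Modules.pullback r₁).obj M ≅ G₁)
    (ψ : (Scheme.Modules.pullback k).obj G₁ ≅ G₂) :
    ∃ β : (Scheme.Modules.pullback r₂).obj M ≅ G₂, ∀ (p : ℕ) (x : Coh.HH W₀ M p),
      CohPull.mapH ψ.hom p (CohPull.pullMod k G₁ p (CohPull.mapH φ.hom p (CohPull.pullMod r₁ M p x))) =
        CohPull.mapH β.hom p (CohPull.pullMod r₂ M p x) := by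
  subst hk
  let c := (Scheme.Modules.pullbackComp k r₁).app M
  refine ⟨c.symm ≪≫ (Scheme.Modules.pullback k).mapIso φ ≪≫ ψ, fun p x => ?_⟩
  have h1 := eq_mapH_inv c (CohPullLib.pullMod_comp k r₁ M p x)
  refine (congrArg (CohPull.mapH ψ.hom p) (CohPullLib.pullMod_natural k φ.hom p _)).trans ?_
  refine (congrArg (fun t => CohPull.mapH ψ.hom p
    (CohPull.mapH ((Scheme.Modules.pullback k).map φ.hom) p t)) h1).trans ?_
  refine (congrArg (CohPull.mapH ψ.hom p)
    (CohPullLib.mapH_comp c.inv ((Scheme.Modules.pullback k).map φ.hom) p (CohPull.pullMod (k ≫ r₁) M p x)).symm).trans ?_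
  refine (CohPullLib.mapH_comp (c.inv ≫ (Scheme.Modules.pullback k).map φ.hom) ψ.hom p
    (CohPull.pullMod (k ≫ r₁) M p x)).symm.trans ?_
  exact congrArg (fun t => CohPull.mapH t p _) (Category.assoc _ _ _)

end Abstract

section Algebra

variable {A B H₁ H₂ N₁ N₂ Q : Type u} [CommRing A] [CommRing B] [Algebra A B]
  [AddCommGroup H₁] [Module A H₁] [AddCommGroup H₂] [Module A H₂] [Module B H₂] [IsScalarTower A B H₂]
  [AddCommGroup N₁] [Module A N₁] [AddCommGroup N₂] [Module B N₂]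
  [AddCommGroup Q] [Module A Q] [Module B Q] [IsScalarTower A B Q]

theorem iff_liftBaseChange (P : H₁ →ₗ[A] H₂) (εA : H₁ →+ N₁) (hA : Function.Bijective εA)
    (hAs : ∀ (a : A) x, εA (a • x) = a • εA x) (εB : H₂ →+ N₂) (hB : Function.Bijective εB)
    (hBs : ∀ (b : B) y, εB (b • y) = b • εB y) (q : N₁ →ₗ[A] Q) (hq : IsBaseChange B q) (bc : Q →+ N₂)
    (hbc : ∀ (b : B) z, bc (b • z) = b • bc z) (hc : ∀ x, εB (P x) = bc (q (εA x))) :
    (Function.Bijective bc ↔ Function.Bijective (P.liftBaseChange B)) ∧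
      (Function.Surjective bc ↔ Function.Surjective (P.liftBaseChange B)) := by
  let eA : H₁ ≃ₗ[A] N₁ := { AddEquiv.ofBijective εA hA with map_smul' := hAs }
  let c : B ⊗[A] H₁ ≃ₗ[B] Q :=
    (TensorProduct.AlgebraTensorModule.congr (LinearEquiv.refl B B) eA).trans hq.equiv
  have key : ∀ z, bc (c z) = εB (P.liftBaseChange B z) := fun z => by
    induction z using TensorProduct.induction_on with
    | zero => simp only [map_zero]
    | add z w hz hw => simp only [map_add, hz, hw]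
    | tmul b x =>
      rw [LinearMap.liftBaseChange_tmul, hBs, hc, ← hbc]
      exact congrArg bc (hq.equiv_tmul b (eA x))
  have h : ⇑bc ∘ ⇑c = ⇑εB ∘ ⇑(P.liftBaseChange B) := funext key
  constructor
  · rw [← Function.Bijective.of_comp_iff _ c.bijective, h, Function.Bijective.of_comp_iff' hB]
  · rw [← Function.Surjective.of_comp_iff _ c.surjective, h, Function.Surjective.of_comp_iff' hB]

end Algebra

variable {X Y : Scheme.{u}} (g : X ⟶ Y) {U : Y.Opens} {U' U'' : X.Opens}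

theorem rMor_resLE (h : U' ≤ g ⁻¹ᵁ U) (h' : U'' ≤ U') :
    CohPullLib.rMor h' ≫ g.resLE U U' h = g.resLE U U'' (h'.trans h) := by
  rw [← cancel_mono U.ι, Category.assoc, Scheme.Hom.resLE_comp_ι, ← Category.assoc, Scheme.Hom.resLE_comp_ι,
    Category.comp_id, Scheme.Hom.resLE_comp_ι]

/-- The identification of the pullback of `G|U'` with `G|U''`. -/
noncomputable def resIso (h' : U'' ≤ U') (G : X.Modules) :
    (Scheme.Modules.pullback (CohPullLib.rMor h')).obj (G.restrict U'.ι) ≅ G.restrict U''.ι :=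
  CohPull.pullOnIso (𝟙 X) U' U'' (CohPullLib.le_id_preimage h') G ≪≫
    (Scheme.Modules.restrictFunctor U''.ι).mapIso ((Scheme.Modules.pullbackId X).app G)

theorem resIso_hom (h' : U'' ≤ U') (G : X.Modules) : (resIso h' G).hom = CohPullLib.resMor h' G := rfl

/-- Restricting a pulled-back class is pulling back to the smaller open. -/
theorem exists_resLE_pullOn (h : U' ≤ g ⁻¹ᵁ U) (h' : U'' ≤ U') (F : Y.Modules) :
    ∃ β : (Scheme.Modules.pullback (g.resLE U U'' (h'.trans h))).obj (F.restrict U.ι) ≅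
      ((Scheme.Modules.pullback g).obj F).restrict U''.ι,
      ∀ (p : ℕ) (x : Coh.HHon Y F U p),
        CohPull.resLE ((Scheme.Modules.pullback g).obj F) h' p (CohPull.pullOn g U U' h F p x) =
          CohPull.mapH β.hom p (CohPull.pullMod (g.resLE U U'' (h'.trans h)) (F.restrict U.ι) p x) := by
  obtain ⟨β, hβ⟩ := exists_pull_pull (CohPullLib.rMor h') (g.resLE U U' h) (g.resLE U U'' (h'.trans h))
    (rMor_resLE g h h') (F.restrict U.ι) (CohPull.pullOnIso g U U' h F)
    (resIso h' ((Scheme.Modules.pullback g).obj F))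
  refine ⟨β, fun p x => (CohPullLib.resLE_apply h' _ p _).trans ?_⟩
  rw [← resIso_hom]
  exact hβ p x

variable {S S' X₀ X' : Scheme.{u}} {f : X₀ ⟶ S} {g₀ : S' ⟶ S} {f' : X' ⟶ S'} {g' : X' ⟶ X₀}

/-- The square over affine opens of the bases. -/
theorem isPullback_affBase (hsq : IsPullback g' f' f g₀) {V : S.Opens} {V' : S'.Opens}
    (hV : IsAffineOpen V) (hV' : IsAffineOpen V') (e : V' ≤ g₀ ⁻¹ᵁ V) (e' : f' ⁻¹ᵁ V' ≤ g' ⁻¹ᵁ (f ⁻¹ᵁ V)) :
    IsPullback (g'.resLE (f ⁻¹ᵁ V) (f' ⁻¹ᵁ V') e') (BCCoh.affBase f' hV') (BCCoh.affBase f hV)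
      (Spec.map (g₀.appLE V V' e)) := by
  have hV₀ : ∀ {W Z : Scheme.{u}} (q : W ⟶ Z) {O : Z.Opens} (hO : IsAffineOpen O),
      IsPullback (q ⁻¹ᵁ O).ι (BCCoh.affBase q hO) q hO.fromSpec := fun q O hO =>
    (isPullback_morphismRestrict q O).flip.of_iso (Iso.refl _) (Iso.refl _) hO.isoSpec (Iso.refl _)
      ((Category.comp_id _).trans (Category.id_comp _).symm) (Category.id_comp _).symm
      ((Category.comp_id _).trans (Category.id_comp _).symm)
      (by rw [Iso.refl_hom, Category.comp_id, hO.isoSpec_hom, hO.toSpecΓ_fromSpec])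
  have h0 := hV₀ f hV
  have big : IsPullback ((f' ⁻¹ᵁ V').ι ≫ g') (BCCoh.affBase f' hV') f (hV'.fromSpec ≫ g₀) :=
    (hV₀ f' hV').paste_horiz hsq
  have hb : hV'.fromSpec ≫ g₀ = Spec.map (g₀.appLE V V' e) ≫ hV.fromSpec :=
    (IsAffineOpen.SpecMap_appLE_fromSpec g₀ hV hV' e).symm
  rw [hb, ← Scheme.Hom.resLE_comp_ι g' e'] at big
  refine IsPullback.of_right big ?_ h0
  rw [← cancel_mono hV.fromSpec]
  exact ((Category.assoc _ _ _).trans (congrArg (g'.resLE (f ⁻¹ᵁ V) (f' ⁻¹ᵁ V') e' ≫ ·) h0.w.symm)).trans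
    ((Category.assoc _ _ _).symm.trans (big.w.trans (Category.assoc _ _ _).symm))

variable [HasInjectiveResolutions X₀.Modules] [HasInjectiveResolutions X'.Modules]
  {Δ : RDer.DerivedLES (Scheme.Modules.pushforward f)} {Δ' : RDer.DerivedLES (Scheme.Modules.pushforward f')}
  {E : CohCmp.SectCmp f Δ} {E' : CohCmp.SectCmp f' Δ'}

/-- The base change map on pulled-back sections. -/
theorem bc_pullRes {w : g' ≫ f = f' ≫ g₀} (B : CohCmp.GenBC f g₀ f' g' w E E') (F : X₀.Modules) (p : ℕ)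
    (V : S.Opens) (V' : S'.Opens) (e : V' ≤ g₀ ⁻¹ᵁ V) (s : Γ((Coh.Rpush f p).obj F, V)) :
    (B.bc p F).app V' (pullRes g₀ ((Coh.Rpush f p).obj F) V V' e s) =
      ((Coh.Rpush f' p).obj ((Scheme.Modules.pullback g').obj F)).presheaf.map (homOfLE e).op
        ((B.φ p F).app V s) := by
  rw [CohPullLib.pullRes_def]
  refine (CohPullLib.app_res (B.bc p F) e _).trans ?_
  refine congrArg _ ?_
  have h : (Scheme.Modules.pullbackPushforwardAdjunction g₀).unit.app _ ≫
      (Scheme.Modules.pushforward g₀).map (B.bc p F) = B.φ p F :=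
    ((Scheme.Modules.pullbackPushforwardAdjunction g₀).homEquiv_unit _ _ _).symm.trans (Equiv.apply_symm_apply _ _)
  exact congrArg (fun t => (Scheme.Modules.Hom.app t V) s) h

/-- The adjoint base change map on classes, restricted to a smaller open. -/
theorem eps_pullOn {w : g' ≫ f = f' ≫ g₀} (B : CohCmp.GenBC f g₀ f' g' w E E') (F : X₀.Modules) (p : ℕ)
    (V : S.Opens) (V' : S'.Opens) (e : V' ≤ g₀ ⁻¹ᵁ V) (x : Coh.HHon X₀ F (f ⁻¹ᵁ V) p) :
    E'.ε V' ((Scheme.Modules.pullback g').obj F) p (CohPull.resLE ((Scheme.Modules.pullback g').obj F)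
        (f'.preimage_mono e) p
        (CohPull.pullOn g' (f ⁻¹ᵁ V) (f' ⁻¹ᵁ (g₀ ⁻¹ᵁ V)) (CohCmp.sqLE f g₀ f' g' w V) F p x)) =
      ((Coh.Rpush f' p).obj ((Scheme.Modules.pullback g').obj F)).presheaf.map (homOfLE e).op
        ((B.φ p F).app V (E.ε V F p x)) := by
  refine (CohPullLib.eps_res f' E' p ((Scheme.Modules.pullback g').obj F) e
    (CohPull.pullOn g' (f ⁻¹ᵁ V) (f' ⁻¹ᵁ (g₀ ⁻¹ᵁ V)) (CohCmp.sqLE f g₀ f' g' w V) F p x)).trans ?_
  exact congrArg (((Coh.Rpush f' p).obj ((Scheme.Modules.pullback g').obj F)).presheaf.map (homOfLE e).op)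
    (B.compat V F p x).symm

/-- A cover of the source over an affine open of the base computing the base change map. -/
theorem bijective_bc_app_iff (hsq : IsPullback g' f' f g₀) [QuasiCompact f] [IsSeparated f]
    (B : CohCmp.GenBC f g₀ f' g' hsq.w E E') (F : X₀.Modules) [F.IsQuasicoherent] (p : ℕ)
    {V : S.Opens} {V' : S'.Opens} (hV : IsAffineOpen V) (hV' : IsAffineOpen V') (e : V' ≤ g₀ ⁻¹ᵁ V)
    {ι : Type u} [Finite ι] (U : ι → ((f ⁻¹ᵁ V : X₀.Opens) : Scheme.{u}).Opens) (hcov : iSup U = ⊤)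
    (haff : ∀ (n : ℕ) (a : Fin (n + 1) → ι), IsAffineOpen (⨅ k, U (a k))) :
    letI : Algebra Γ(S, V) Γ(S', V') := (g₀.appLE V V' e).hom.toAlgebra
    let C := BCCoh.cx (A := Γ(S, V)) (BCCoh.affBase f hV) U (F.restrict (f ⁻¹ᵁ V).ι)
    (Function.Bijective ((B.bc p F).app V') ↔
      Function.Bijective (BCCoh.cmpT C p (ModuleCat.of Γ(S, V) Γ(S', V')))) ∧
    (Function.Surjective ((B.bc p F).app V') ↔
      Function.Surjective (BCCoh.cmpT C p (ModuleCat.of Γ(S, V) Γ(S', V')))) := by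
  letI : Algebra Γ(S, V) Γ(S', V') := (g₀.appLE V V' e).hom.toAlgebra
  haveI : IsSeparated f' := MorphismProperty.of_isPullback (P := @IsSeparated) hsq ‹_›
  haveI : QuasiCompact f' := MorphismProperty.of_isPullback (P := @QuasiCompact) hsq ‹_›
  let G := (Scheme.Modules.pullback g').obj F
  haveI : G.IsQuasicoherent := FittSheaf.isQuasicoherent_pullback g' F
  let N := (Coh.Rpush f p).obj F
  haveI : N.IsQuasicoherent := Cohom.isQuasicoherent_Rpush f F p
  let N' := (Coh.Rpush f' p).obj G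
  let U₀ : X₀.Opens := f ⁻¹ᵁ V
  let M := F.restrict U₀.ι
  haveI : M.IsQuasicoherent :=
    haveI := FittSheaf.isQuasicoherent_pullback U₀.ι F
    (SheafOfModules.isQuasicoherent (U₀ : Scheme.{u}).ringCatSheaf).prop_of_iso ((Scheme.Modules.restrictFunctorIsoPullback U₀.ι).app F).symm this
  have h₁ := CohCmp.sqLE f g₀ f' g' hsq.w V
  have h₂ : f' ⁻¹ᵁ V' ≤ f' ⁻¹ᵁ (g₀ ⁻¹ᵁ V) := f'.preimage_mono e
  let r := g'.resLE U₀ (f' ⁻¹ᵁ V') (h₂.trans h₁)
  let f₀ := BCCoh.affBase f hV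
  let f₁ := BCCoh.affBase f' hV'
  have H : IsPullback r f₁ f₀ (Spec.map (CommRingCat.ofHom (algebraMap Γ(S, V) Γ(S', V')))) :=
    isPullback_affBase hsq hV hV' e (h₂.trans h₁)
  obtain ⟨β, hβ⟩ := exists_resLE_pullOn g' h₁ h₂ F
  letI := BCCoh.modHH (A := Γ(S, V)) f₀ M p
  let G₁ := (Scheme.Modules.pullback r).obj M
  letI : Module Γ(S', V') (Coh.HH _ G₁ p) := BCCoh.modHH (A := Γ(S', V')) f₁ G₁ p
  letI := modA (A := Γ(S, V)) (B := Γ(S', V')) f₁ r M p
  haveI : IsScalarTower Γ(S, V) Γ(S', V') (Coh.HH _ G₁ p) := IsScalarTower.of_algebraMap_smul fun _ _ => rfl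
  obtain ⟨P, hP, hsur, hbij⟩ := exists_comparison f₀ f₁ r H M U hcov haff p
  let εB : Coh.HH _ G₁ p →+ Γ(N', V') := (E'.ε V' G p).comp (CohPull.mapH β.hom p)
  have hεB : Function.Bijective εB := by
    refine (CohPullLib.eps_bijective f' E' G p hV').comp (Function.bijective_iff_has_inverse.2
      ⟨CohPull.mapH β.inv p, fun x => (eq_mapH_inv β rfl).symm, fun x => (eq_mapH_inv β.symm rfl).symm⟩)
  have hεBsmul : ∀ (b : Γ(S', V')) y, εB (b • y) = b • εB y := fun b y => by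
    letI := BCCoh.modHH (A := Γ(S', V')) (BCCoh.affBase f' hV') (G.restrict (f' ⁻¹ᵁ V').ι) p
    refine Eq.trans (congrArg (E'.ε V' G p) ?_) (CohPullLib.eps_smul f' E' hV' b p G (CohPull.mapH β.hom p y))
    refine (Sheaf.H.map_comp_apply _ _ _).symm.trans ?_
    exact (congrArg (fun t => Sheaf.H.map t p y) (Cohom.smulAb_naturality β.hom (Coh.toGlobal f₁ b))).trans
      (Sheaf.H.map_comp_apply _ _ _)
  letI : Module Γ(S, V) Γ((Scheme.Modules.pullback g₀).obj N, V') := Module.compHom _ (g₀.appLE V V' e).hom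
  haveI : IsScalarTower Γ(S, V) Γ(S', V') Γ((Scheme.Modules.pullback g₀).obj N, V') :=
    IsScalarTower.of_algebraMap_smul fun _ _ => rfl
  obtain ⟨q, hq, hqv⟩ := BCCoh.isBaseChange_pullRes g₀ N hV hV' e
  have hcompat : ∀ x, εB (P x) = ((B.bc p F).app V').hom (q (E.ε V F p x)) := fun x => by
    refine Eq.trans ?_ ((congrArg ((B.bc p F).app V') (hqv (E.ε V F p x))).trans
      (bc_pullRes B F p V V' e (E.ε V F p x))).symm
    refine (congrArg (fun t => E'.ε V' G p (CohPull.mapH β.hom p t)) (hP x)).trans ?_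
    exact (congrArg (E'.ε V' G p) (hβ p x).symm).trans (eps_pullOn B F p V V' e x)
  obtain ⟨hb, hs⟩ := iff_liftBaseChange P (E.ε V F p) (CohPullLib.eps_bijective f E F p hV)
    (fun a x => CohPullLib.eps_smul f E hV a p F x) εB hεB hεBsmul q hq ((B.bc p F).app V').hom
    (fun b z => Scheme.Modules.Hom.app_smul (B.bc p F) b z) hcompat
  exact ⟨hb.trans hbij, hs.trans hsur⟩

end GrothLib.BCCrit
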