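import Groth.Agent.Lib.BCCrit.Theta
import Groth.Agent.Lib.BCCrit.Glue
import Groth.Agent.Lib.BCCrit.ModelExists
import Groth.Agent.Lib.QCoh.Filtration
import Groth.Agent.Lib.QCoh.SupportExact

/-! # Base change near a point of an arbitrary base, from a model -/

set_option autoImplicit false
set_option linter.style.haveILetI false
set_option backward.isDefEq.respectTransparency false
set_option maxHeartbeats 1000000
universe u

noncomputable section

open CategoryTheory CategoryTheory.Limits AlgebraicGeometry Opposite TopologicalSpace TensorProduct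

namespace GrothLib.BCCrit

open GrothLib.BCCoh

section OnePoint

variable {Y : Scheme.{u}} [Subsingleton Y] {M N : Y.Modules}

theorem opens_eq_top {T : Y.Opens} {z : Y} (hz : z ∈ T) : T = ⊤ :=
  eq_top_iff.2 fun w _ => Subsingleton.elim z w ▸ hz

theorem germ_top_bijective (M : Y.Modules) (z : Y) :
    Function.Bijective (M.presheaf.germ ⊤ z trivial) := by
  refine ⟨fun a b hab => ?_, fun t => ?_⟩
  · obtain ⟨W, hW, i₁, i₂, e⟩ := TopCat.Presheaf.germ_eq M.presheaf z (U := ⊤) (V := ⊤) trivial trivial a b hab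
    obtain rfl := opens_eq_top hW
    rw [Subsingleton.elim i₁ (𝟙 _), Subsingleton.elim i₂ (𝟙 _), op_id] at e
    simpa using e
  · obtain ⟨W, hW, s, hs⟩ := TopCat.Presheaf.exists_germ_eq M.presheaf t
    obtain rfl := opens_eq_top hW
    exact ⟨s, hs⟩

/-- On a one-point space, epimorphisms are the maps surjective on global sections. -/
theorem epi_iff_surjective (φ : M ⟶ N) (z : Y) : Epi φ ↔ Function.Surjective (φ.app ⊤) := by
  have hc : ∀ s, ((TopCat.Presheaf.stalkFunctor Ab z).map (Scheme.Modules.Hom.mapPresheaf φ))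
      (M.presheaf.germ ⊤ z trivial s) = N.presheaf.germ ⊤ z trivial (φ.app ⊤ s) := fun s =>
    TopCat.Presheaf.stalkFunctor_map_germ_apply (C := Ab) ⊤ z trivial (Scheme.Modules.Hom.mapPresheaf φ) s
  constructor
  · intro h t
    obtain ⟨y, hy⟩ := QCoh.stalkLin_surjective φ z (N.presheaf.germ ⊤ z trivial t)
    obtain ⟨s, rfl⟩ := (germ_top_bijective M z).2 y
    exact ⟨s, (germ_top_bijective N z).1 ((hc s).symm.trans hy)⟩
  · intro h
    refine (OX.epi_iff φ).2 fun w => ?_
    obtain rfl := Subsingleton.elim z w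
    refine (ModuleCat.epi_iff_surjective _).2 fun t => ?_
    obtain ⟨t, rfl⟩ := (germ_top_bijective N z).2 t
    obtain ⟨s, rfl⟩ := h t
    exact ⟨M.presheaf.germ ⊤ z trivial s, hc s⟩

end OnePoint

theorem notMem_primeIdealOf {S : Scheme.{u}} {V : S.Opens} (hV : IsAffineOpen V) {s : S} (hs : s ∈ V)
    (a : Γ(S, V)) : a ∉ (hV.primeIdealOf ⟨s, hs⟩).asIdeal ↔ s ∈ S.basicOpen a := by
  rw [← QCoh.primeAt_eq_primeIdealOf hV hs]
  exact WeakAss.notMem_primeAt_iff

theorem isUnit_appLE {S S' : Scheme.{u}} (g : S' ⟶ S) {V : S.Opens} {V' : S'.Opens} (e : V' ≤ g ⁻¹ᵁ V)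
    (a : Γ(S, V)) (h : V' ≤ g ⁻¹ᵁ (S.basicOpen a)) : IsUnit ((g.appLE V V' e).hom a) := by
  refine S'.toRingedSpace.isUnit_of_isUnit_germ _ _ fun z hz => ?_
  have hz' : z ∈ S'.basicOpen ((g.appLE V V' e).hom a) := by
    rw [Scheme.basicOpen_appLE]
    exact ⟨hz, h hz⟩
  exact (Scheme.mem_basicOpen S' ((g.appLE V V' e).hom a) z hz).1 hz'

variable {X S : Scheme.{u}} {f : X ⟶ S} {F : X.Modules} [F.IsQuasicoherent] [IsProper f]
  {V : S.Opens} {hV : IsAffineOpen V} (m : Model (affBase f hV) (F.restrict (f ⁻¹ᵁ V).ι))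

section BC

variable [HasInjectiveResolutions X.Modules] {S' X' : Scheme.{u}} [HasInjectiveResolutions X'.Modules]
  {g₀ : S' ⟶ S} {f' : X' ⟶ S'} {g' : X' ⟶ X} {Δ : RDer.DerivedLES (Scheme.Modules.pushforward f)}
  {Δ' : RDer.DerivedLES (Scheme.Modules.pushforward f')} {E : CohCmp.SectCmp f Δ} {E' : CohCmp.SectCmp f' Δ'}

/-- The base change map on affine opens, through the model. -/
theorem bc_app_iff (hsq : IsPullback g' f' f g₀) (B : CohCmp.GenBC f g₀ f' g' hsq.w E E') (p : ℕ)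
    {V' : S'.Opens} (hV' : IsAffineOpen V') (e : V' ≤ g₀ ⁻¹ᵁ V) :
    letI : Algebra Γ(S, V) Γ(S', V') := (g₀.appLE V V' e).hom.toAlgebra
    (Function.Bijective ((B.bc p F).app V') ↔
      Function.Bijective (cmpT m.L (p : ℤ) (ModuleCat.of Γ(S, V) Γ(S', V')))) ∧
    (Function.Surjective ((B.bc p F).app V') ↔
      Function.Surjective (cmpT m.L (p : ℤ) (ModuleCat.of Γ(S, V) Γ(S', V')))) := by
  letI : Algebra Γ(S, V) Γ(S', V') := (g₀.appLE V V' e).hom.toAlgebra
  obtain ⟨hb, hs⟩ := bijective_bc_app_iff hsq B F p hV hV' e m.U m.cover m.aff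
  exact ⟨hb.trans (bijective_cmpT_transfer m.L (p : ℤ) _ p (theta m p) _).symm,
    hs.trans (surjective_cmpT_transfer m.L (p : ℤ) _ p (theta m p) _).symm⟩

include m in
/-- Near a point where the cokernel is free, base change is an isomorphism. -/
theorem exists_isIso_bc_of_good (p : ℕ) {s : S} (hs : s ∈ V) (h : Good m.L (p : ℤ) (hV.primeIdealOf ⟨s, hs⟩)) :
    ∃ a : Γ(S, V), s ∈ S.basicOpen a ∧
      ∀ {S' X' : Scheme.{u}} [HasInjectiveResolutions X'.Modules] {g₀ : S' ⟶ S} {f' : X' ⟶ S'} {g' : X' ⟶ X}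
        {Δ : RDer.DerivedLES (Scheme.Modules.pushforward f)} {Δ' : RDer.DerivedLES (Scheme.Modules.pushforward f')}
        {E : CohCmp.SectCmp f Δ} {E' : CohCmp.SectCmp f' Δ'} (hsq : IsPullback g' f' f g₀)
        (B : CohCmp.GenBC f g₀ f' g' hsq.w E E') {V' : S'.Opens}, IsAffineOpen V' →
        V' ≤ g₀ ⁻¹ᵁ (S.basicOpen a) → Function.Bijective ((B.bc p F).app V') := by
  obtain ⟨a, ha, hb⟩ := exists_bijective_of_good m.L m.finFree (p : ℤ) _ h
  refine ⟨a, (notMem_primeIdealOf hV hs a).1 ha, ?_⟩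
  intro S' X' _ g₀ f' g' Δ Δ' E E' hsq B V' hV' hle
  have e : V' ≤ g₀ ⁻¹ᵁ V := hle.trans (g₀.preimage_mono (S.basicOpen_le a))
  letI : Algebra Γ(S, V) Γ(S', V') := (g₀.appLE V V' e).hom.toAlgebra
  exact (bc_app_iff m hsq B p hV' e).1.2 (hb Γ(S', V') (isUnit_appLE g₀ e a hle))

end BC

section Fibre

variable [HasInjectiveResolutions X.Modules] {s : S} [HasInjectiveResolutions (f.fiber s).Modules]
  {Δ : RDer.DerivedLES (Scheme.Modules.pushforward f)}
  {Δs : RDer.DerivedLES (Scheme.Modules.pushforward (f.fiberToSpecResidueField s))}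
  {E : CohCmp.SectCmp f Δ} {Es : CohCmp.SectCmp (f.fiberToSpecResidueField s) Δs}

include m in
/-- **Surjectivity of the fibre base change map is freeness of the cokernel.** -/
theorem epi_bc_fiber_iff (hs : s ∈ V)
    (Bs : CohCmp.GenBC f (S.fromSpecResidueField s) (f.fiberToSpecResidueField s) (f.fiberι s) (f.fiber_fac s) E Es)
    (p : ℕ) : Epi (Bs.bc p F) ↔ Good m.L (p : ℤ) (hV.primeIdealOf ⟨s, hs⟩) := by
  let κ := S.residueField s
  let q := S.fromSpecResidueField s
  let T := Spec κ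
  haveI : Subsingleton T := inferInstanceAs (Subsingleton (PrimeSpectrum κ))
  let z : T := IsLocalRing.closedPoint κ
  have hsq : IsPullback (f.fiberι s) (f.fiberToSpecResidueField s) f q := IsPullback.of_hasPullback _ _
  have hq : ∀ w, q w = s := Scheme.fromSpecResidueField_apply s
  have e : (⊤ : T.Opens) ≤ q ⁻¹ᵁ V := fun w _ => by
    show q w ∈ V
    rw [hq w]
    exact hs
  letI : Algebra Γ(S, V) Γ(T, ⊤) := (q.appLE V ⊤ e).hom.toAlgebra
  refine (epi_iff_surjective (Bs.bc p F) z).trans ((bc_app_iff m hsq Bs p (isAffineOpen_top T) e).2.trans ?_)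
  haveI : Nontrivial Γ(T, ⊤) := RingHom.domain_nontrivial (Scheme.ΓSpecIso κ).hom.hom
  refine (good_iff_surjective_of_residue m.L m.finFree (p : ℤ) _ Γ(T, ⊤) (fun a ha => ?_) fun a ha => ?_).symm
  · refine isUnit_appLE q e a fun w _ => ?_
    show q w ∈ S.basicOpen a
    rw [hq w]
    exact (notMem_primeIdealOf hV hs a).1 ha
  · by_contra h0
    let iso := Scheme.ΓSpecIso κ
    have h1 : IsUnit (iso.hom.hom ((q.appLE V ⊤ e).hom a)) := isUnit_iff_ne_zero.2 fun h =>
      h0 ((ConcreteCategory.bijective_of_isIso iso.hom).1 (h.trans (map_zero iso.hom.hom).symm))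
    have h2 : IsUnit ((q.appLE V ⊤ e).hom a) := by
      have := h1.map iso.inv.hom
      rwa [show iso.inv.hom (iso.hom.hom ((q.appLE V ⊤ e).hom a)) = (q.appLE V ⊤ e).hom a from
        iso.hom_inv_id_apply _] at this
    have h3 : z ∈ T.basicOpen ((q.appLE V ⊤ e).hom a) :=
      (Scheme.mem_basicOpen T ((q.appLE V ⊤ e).hom a) z trivial).2 (h2.map (T.presheaf.germ ⊤ z trivial).hom)
    rw [Scheme.basicOpen_appLE] at h3
    have h4 : q z ∈ S.basicOpen a := h3.2
    rw [hq z] at h4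
    exact (notMem_primeIdealOf hV hs a).2 h4 ha

end Fibre

end GrothLib.BCCrit
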