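import Groth.Agent.Lib.BCCrit.Local
import Groth.Agent.Lib.BCCrit.FpFrame
import Groth.Agent.Lib.BCCoh.Grauert
import Groth.Agent.Lib.Ref1.Frame
import Groth.Agent.Lib.Cohom.RpushModules

/-! # Local freeness of higher direct images near a point, from a model -/

set_option autoImplicit false
set_option linter.style.haveILetI false
set_option backward.isDefEq.respectTransparency false
set_option maxHeartbeats 2000000
universe u

noncomputable section

open CategoryTheory CategoryTheory.Limits AlgebraicGeometry Opposite TopologicalSpace TensorProduct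

namespace GrothLib.BCCrit

open GrothLib.BCCoh

theorem flat_T_iff' {A : Type u} [CommRing A] (L : CochainComplex (ModuleCat.{u} A) ℤ)
    (hL : ∀ k, Module.Finite A (L.X k) ∧ Module.Free A (L.X k)) {i j : ℤ} (h : i + 1 = j) (G : Type u) [CommRing G]
    [Algebra A G] [Module.Flat A G] (hn : Module.Flat G (G ⊗[A] Cq L j)) :
    (Module.Flat G (G ⊗[A] CohIII.T L j (ModuleCat.of A A)) ↔ Module.Flat G (G ⊗[A] Cq L i)) ∧
      (Module.Flat G (G ⊗[A] Cq L i) → Module.FinitePresentation G (G ⊗[A] CohIII.T L j (ModuleCat.of A A))) := by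
  subst h
  exact flat_T_iff L hL i G hn

/-- Sections on a principal open are the base change of the sections. -/
theorem exists_isBaseChange_basicOpen {S : Scheme.{u}} (N : S.Modules) [N.IsQuasicoherent] {V : S.Opens}
    (hV : IsAffineOpen V) (a : Γ(S, V)) :
    letI : Algebra Γ(S, V) Γ(S, S.basicOpen a) := (S.presheaf.map (homOfLE (S.basicOpen_le a)).op).hom.toAlgebra
    letI : Module Γ(S, V) Γ(N, S.basicOpen a) := Module.compHom _ (S.presheaf.map (homOfLE (S.basicOpen_le a)).op).hom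
    haveI : IsScalarTower Γ(S, V) Γ(S, S.basicOpen a) Γ(N, S.basicOpen a) :=
      IsScalarTower.of_algebraMap_smul fun _ _ => rfl
    ∃ r : Γ(N, V) →ₗ[Γ(S, V)] Γ(N, S.basicOpen a), IsBaseChange Γ(S, S.basicOpen a) r := by
  letI : Algebra Γ(S, V) Γ(S, S.basicOpen a) := (S.presheaf.map (homOfLE (S.basicOpen_le a)).op).hom.toAlgebra
  letI : Module Γ(S, V) Γ(N, S.basicOpen a) := Module.compHom _ (S.presheaf.map (homOfLE (S.basicOpen_le a)).op).hom
  haveI : IsScalarTower Γ(S, V) Γ(S, S.basicOpen a) Γ(N, S.basicOpen a) :=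
    IsScalarTower.of_algebraMap_smul fun _ _ => rfl
  haveI : IsLocalization.Away a Γ(S, S.basicOpen a) := hV.isLocalization_basicOpen a
  let r : Γ(N, V) →ₗ[Γ(S, V)] Γ(N, S.basicOpen a) :=
    { toFun := N.presheaf.map (homOfLE (S.basicOpen_le a)).op
      map_add' := map_add _
      map_smul' := fun c z => Scheme.Modules.map_smul N (homOfLE (S.basicOpen_le a)) c z }
  obtain ⟨hl, hsep⟩ := QCoh.smulLift_and_smulSep_of_isAffineOpen hV N a
  have hu : IsUnit (algebraMap Γ(S, V) Γ(S, S.basicOpen a) a) := IsLocalization.Away.algebraMap_isUnit a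
  haveI : IsLocalizedModule (Submonoid.powers a) r := by
    refine IsLocalizedModule.Away.mk_of_addCommGroup ?_ (fun z => ?_) (fun z hz => hsep z hz)
    · rw [Module.End.isUnit_iff]
      exact ⟨fun p q hpq => hu.smul_left_cancel.mp hpq,
        fun q => ⟨(↑hu.unit⁻¹ : Γ(S, S.basicOpen a)) • q, by
          show algebraMap Γ(S, V) Γ(S, S.basicOpen a) a • (↑hu.unit⁻¹ : Γ(S, S.basicOpen a)) • q = q
          rw [smul_smul, hu.mul_val_inv, one_smul]⟩⟩
    · obtain ⟨n, t, ht⟩ := hl z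
      refine ⟨n, t, ?_⟩
      show algebraMap Γ(S, V) Γ(S, S.basicOpen a) (a ^ n) • z = _
      rw [map_pow]
      exact ht.symm
  exact ⟨r, IsLocalizedModule.isBaseChange (Submonoid.powers a) _ r⟩

variable {X S : Scheme.{u}} {f : X ⟶ S} {F : X.Modules} [F.IsQuasicoherent] [IsProper f]
  [HasInjectiveResolutions X.Modules]
  {V : S.Opens} {hV : IsAffineOpen V} (m : Model (affBase f hV) (F.restrict (f ⁻¹ᵁ V).ι))

include m in
/-- The stalk of the higher direct image, from the model. -/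
theorem nonempty_stalk_equiv (p : ℕ) {s : S} (hs : s ∈ V) :
    letI : Algebra Γ(S, V) (S.presheaf.stalk s) := S.presheaf.algebra_section_stalk ⟨s, hs⟩
    Nonempty (S.presheaf.stalk s ⊗[Γ(S, V)] CohIII.T m.L (p : ℤ) (ModuleCat.of Γ(S, V) Γ(S, V)) ≃ₗ[S.presheaf.stalk s]
      ((Coh.Rpush f p).obj F).presheaf.stalk s) := by
  letI : Algebra Γ(S, V) (S.presheaf.stalk s) := S.presheaf.algebra_section_stalk ⟨s, hs⟩
  haveI := FlatFP.isLocalization_stalk_primeAt hV hs
  let N := (Coh.Rpush f p).obj F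
  haveI : N.IsQuasicoherent := Cohom.isQuasicoherent_Rpush f F p
  letI : Module Γ(S, V) (N.presheaf.stalk s) := Module.compHom _ (S.presheaf.germ V s hs).hom
  haveI : IsScalarTower Γ(S, V) (S.presheaf.stalk s) (N.presheaf.stalk s) :=
    IsScalarTower.of_algebraMap_smul fun _ _ => rfl
  obtain ⟨g, hg, -⟩ := FlatFP.isLocalizedModule_germ N hV hs
  haveI := hg
  have hbc : IsBaseChange (S.presheaf.stalk s) g :=
    IsLocalizedModule.isBaseChange (WeakAss.primeAt s hs).primeCompl _ g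
  obtain ⟨e⟩ := m.nonempty_T_equiv_Rpush f hV F p
  exact ⟨(TensorProduct.AlgebraTensorModule.congr (LinearEquiv.refl _ _) e).trans hbc.equiv⟩

theorem isLocalization_stalk {S : Scheme.{u}} {V : S.Opens} (hV : IsAffineOpen V) {s : S} (hs : s ∈ V) :
    letI : Algebra Γ(S, V) (S.presheaf.stalk s) := S.presheaf.algebra_section_stalk ⟨s, hs⟩
    IsLocalization.AtPrime (S.presheaf.stalk s) (hV.primeIdealOf ⟨s, hs⟩).asIdeal :=
  hV.isLocalization_stalk ⟨s, hs⟩

/-- The rank of a module free at a stalk is its fibre dimension at the prime. -/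
theorem finrank_residue_eq {A : Type u} [CommRing A] (x : PrimeSpectrum A) (O : Type u) [CommRing O] [Algebra A O]
    [IsLocalization.AtPrime O x.asIdeal] (H : Type u) [AddCommGroup H] [Module A H] {n : ℕ}
    (e : O ⊗[A] H ≃ₗ[O] (Fin n → O)) :
    Module.finrank x.asIdeal.ResidueField (x.asIdeal.ResidueField ⊗[A] H) = n := by
  let κ := x.asIdeal.ResidueField
  have hu : ∀ a : x.asIdeal.primeCompl, IsUnit (algebraMap A κ a) := fun a =>
    isUnit_algebraMap_residueField a.2
  letI : Algebra O κ := (IsLocalization.lift (M := x.asIdeal.primeCompl) (S := O) hu).toAlgebra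
  haveI : IsScalarTower A O κ := IsScalarTower.of_algebraMap_eq fun a => (IsLocalization.lift_eq hu a).symm
  haveI : Nontrivial O := (algebraMap O κ).domain_nontrivial
  haveI : Module.Free O (O ⊗[A] H) := Module.Free.of_equiv e.symm
  rw [← (TensorProduct.AlgebraTensorModule.cancelBaseChange A O κ κ H).finrank_eq, Module.finrank_baseChange,
    e.finrank_eq, Module.finrank_fin_fun]

include m in
/-- **Local freeness near a point where two consecutive cokernels are free.** -/
theorem exists_free_near_of_good (p : ℕ) {s : S} (hs : s ∈ V)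
    (h₁ : Good m.L ((p : ℤ) - 1) (hV.primeIdealOf ⟨s, hs⟩)) (h₂ : Good m.L (p : ℤ) (hV.primeIdealOf ⟨s, hs⟩)) :
    ∃ (U : S.Opens) (n : ℕ), s ∈ U ∧ Nonempty (((Coh.Rpush f p).obj F).restrict U.ι ≅ FlatMod.freeMod (↑U) n) ∧
      ∀ y ∈ U, CohIII.fiberRank f F p y = n := by
  let N := (Coh.Rpush f p).obj F
  haveI : N.IsQuasicoherent := Cohom.isQuasicoherent_Rpush f F p
  obtain ⟨a₁, ha₁, hf₁⟩ := exists_flat_of_good m.L m.finFree _ _ h₁
  obtain ⟨a₂, ha₂, hf₂⟩ := exists_flat_of_good m.L m.finFree _ _ h₂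
  let a := a₁ * a₂
  let D := S.basicOpen a
  have hD : IsAffineOpen D := hV.basicOpen a
  have hsD : s ∈ D := (notMem_primeIdealOf hV hs a).1 fun hm =>
    (((hV.primeIdealOf ⟨s, hs⟩).isPrime).mem_or_mem hm).elim ha₁ ha₂
  let G := Γ(S, D)
  letI : Algebra Γ(S, V) G := (S.presheaf.map (homOfLE (S.basicOpen_le a)).op).hom.toAlgebra
  haveI : IsLocalization.Away a G := hV.isLocalization_basicOpen a
  haveI : Module.Flat Γ(S, V) G := IsLocalization.flat G (Submonoid.powers a)
  have hu : IsUnit (algebraMap Γ(S, V) G a₁) ∧ IsUnit (algebraMap Γ(S, V) G a₂) := by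
    rw [← IsUnit.mul_iff, ← map_mul]
    exact IsLocalization.Away.algebraMap_isUnit a
  have e' : (p : ℤ) - 1 + 1 = p := by omega
  obtain ⟨k₁, k₂⟩ := flat_T_iff' m.L m.finFree e' G (hf₂ G hu.2)
  haveI : Module.Flat G (G ⊗[Γ(S, V)] CohIII.T m.L (p : ℤ) (ModuleCat.of Γ(S, V) Γ(S, V))) := k₁.2 (hf₁ G hu.1)
  haveI : Module.FinitePresentation G (G ⊗[Γ(S, V)] CohIII.T m.L (p : ℤ) (ModuleCat.of Γ(S, V) Γ(S, V))) :=
    k₂ (hf₁ G hu.1)
  letI : Module Γ(S, V) Γ(N, D) := Module.compHom _ (S.presheaf.map (homOfLE (S.basicOpen_le a)).op).hom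
  haveI : IsScalarTower Γ(S, V) G Γ(N, D) := IsScalarTower.of_algebraMap_smul fun _ _ => rfl
  obtain ⟨r, hr⟩ := exists_isBaseChange_basicOpen N hV a
  obtain ⟨eT⟩ := m.nonempty_T_equiv_Rpush f hV F p
  let eD : (G ⊗[Γ(S, V)] CohIII.T m.L (p : ℤ) (ModuleCat.of Γ(S, V) Γ(S, V))) ≃ₗ[G] Γ(N, D) :=
    (TensorProduct.AlgebraTensorModule.congr (LinearEquiv.refl G G) eT).trans hr.equiv
  haveI : Module.Flat G Γ(N, D) := Module.Flat.of_linearEquiv eD.symm
  haveI : Module.Finite G Γ(N, D) := Module.Finite.equiv eD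
  haveI : Module.Projective G (G ⊗[Γ(S, V)] CohIII.T m.L (p : ℤ) (ModuleCat.of Γ(S, V) Γ(S, V))) :=
    Module.Flat.projective_of_finitePresentation
  haveI : Module.Projective G Γ(N, D) := Module.Projective.of_equiv eD
  haveI : Module.FinitePresentation G Γ(N, D) := Module.finitePresentation_of_projective G _
  -- the stalk
  let O := S.presheaf.stalk s
  letI algO : Algebra G O := S.presheaf.algebra_section_stalk ⟨s, hsD⟩
  haveI := FlatFP.isLocalization_stalk_primeAt hD hsD
  letI : Module G (N.presheaf.stalk s) := Module.compHom _ (S.presheaf.germ D s hsD).hom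
  haveI : IsScalarTower G O (N.presheaf.stalk s) := IsScalarTower.of_algebraMap_smul fun _ _ => rfl
  obtain ⟨g, hg, -⟩ := FlatFP.isLocalizedModule_germ N hD hsD
  haveI := hg
  have hbc : IsBaseChange O g := IsLocalizedModule.isBaseChange (WeakAss.primeAt s hsD).primeCompl _ g
  haveI : Module.Finite O (N.presheaf.stalk s) := Module.Finite.equiv hbc.equiv
  haveI : Module.Flat O (N.presheaf.stalk s) := Module.Flat.of_linearEquiv hbc.equiv.symm
  haveI : Module.Free O (N.presheaf.stalk s) := Module.free_of_flat_of_isLocalRing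
  let n := Module.finrank O (N.presheaf.stalk s)
  obtain ⟨D', ev, hD', hsD', hev⟩ := exists_frame_of_fp hD hsD (Module.finBasis O (N.presheaf.stalk s))
  refine ⟨D', n, hsD', FinCov.exists_iso_of_frame hev, fun y hy => ?_⟩
  have hyD : y ∈ D := hD' hy
  have hyV : y ∈ V := S.basicOpen_le a hyD
  let Oy := S.presheaf.stalk y
  let P := hV.primeIdealOf ⟨y, hyV⟩
  letI : Algebra Γ(S, V) Oy := S.presheaf.algebra_section_stalk ⟨y, hyV⟩
  haveI := isLocalization_stalk hV hyV
  have hgood : Good m.L (p : ℤ) P := good_of_flat m.L m.finFree _ P Oy (hf₂ Oy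
    (isUnit_of_mul_isUnit_right (x := algebraMap Γ(S, V) Oy a₁) (by
      rw [← map_mul]
      exact (Scheme.mem_basicOpen S a y hyV).1 hyD)))
  obtain ⟨es⟩ := nonempty_stalk_equiv m p hyV
  rw [m.fiberRank_affine f hV F p y hyV, dRank_eq_of_good m.L m.finFree _ P hgood]
  exact finrank_residue_eq P Oy _ (es.trans (LinearEquiv.ofBijective _ (Ref1.stalk_of_isFrame hev y hy)).symm)

include m in
/-- Local freeness at a point lowers the degree of freeness of cokernels. -/
theorem good_of_free (p : ℕ) {s : S} (hs : s ∈ V) (h₂ : Good m.L (p : ℤ) (hV.primeIdealOf ⟨s, hs⟩))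
    {U : S.Opens} {n : ℕ} (hsU : s ∈ U) (φ : ((Coh.Rpush f p).obj F).restrict U.ι ≅ FlatMod.freeMod (↑U) n) :
    Good m.L ((p : ℤ) - 1) (hV.primeIdealOf ⟨s, hs⟩) := by
  obtain ⟨ev, hev⟩ := FinCov.exists_frame_of_iso φ
  have hsU' : s ∈ U.ι ''ᵁ ⊤ := by rw [Scheme.Opens.ι_image_top]; exact hsU
  let x := hV.primeIdealOf ⟨s, hs⟩
  let O := S.presheaf.stalk s
  letI : Algebra Γ(S, V) O := S.presheaf.algebra_section_stalk ⟨s, hs⟩
  haveI := isLocalization_stalk hV hs
  haveI : Module.Flat Γ(S, V) O := IsLocalization.flat O x.asIdeal.primeCompl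
  obtain ⟨es⟩ := nonempty_stalk_equiv m p hs
  obtain ⟨a₂, ha₂, hf₂⟩ := exists_flat_of_good m.L m.finFree _ _ h₂
  refine good_of_flat m.L m.finFree _ x O
    ((flat_T_iff' m.L m.finFree (show (p : ℤ) - 1 + 1 = p by omega) O (hf₂ O ?_)).1.1 ?_)
  · exact IsLocalization.map_units O (⟨a₂, ha₂⟩ : x.asIdeal.primeCompl)
  · haveI : Module.Free O (O ⊗[Γ(S, V)] CohIII.T m.L (p : ℤ) (ModuleCat.of Γ(S, V) Γ(S, V))) :=
      Module.Free.of_equiv ((LinearEquiv.ofBijective _ (Ref1.stalk_of_isFrame hev s hsU')).trans es.symm)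
    exact Module.Flat.of_free

end GrothLib.BCCrit
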