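import Groth.Agent.Lib.BCCoh.Cmp
import Groth.Agent.Lib.BCCoh.FlatHomology

/-! # Base change for complexes with cokernels flat over a smaller base ring -/

set_option autoImplicit false
set_option linter.style.haveILetI false

universe u

noncomputable section

namespace GrothLib.BCCrit

open CategoryTheory CategoryTheory.Limits TensorProduct

section Pushout

variable {R A R' B : Type u} [CommRing R] [CommRing A] [CommRing R'] [CommRing B] [Algebra R A] [Algebra R R']
  [Algebra A B] [Algebra R' B] [Algebra R B] [IsScalarTower R A B] [IsScalarTower R R' B]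

/-- A sequence with cokernel flat over `R` stays exact on the left after base change along a pushout of `R`. -/
theorem rTensor_injective_pushout [Algebra.IsPushout R R' A B] {K X Q : Type u} [AddCommGroup K] [Module A K]
    [Module R K] [IsScalarTower R A K] [AddCommGroup X] [Module A X] [Module R X] [IsScalarTower R A X]
    [AddCommGroup Q] [Module A Q] [Module R Q] [IsScalarTower R A Q] {f : K →ₗ[A] X} {g : X →ₗ[A] Q}
    (hf : Function.Injective f) (hg : Function.Surjective g) (h : Function.Exact f g) [Module.Flat R Q] :
    Function.Injective (f.rTensor B) := by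
  rw [← LinearMap.lTensor_inj_iff_rTensor_inj]
  have h1 : Function.Injective ((f.restrictScalars R).lTensor R') :=
    (LinearMap.lTensor_inj_iff_rTensor_inj R' _).2
      (FlatCx.rTensor_injective_of_flat (g := f.restrictScalars R) (f := g.restrictScalars R) hf hg h R')
  let eK := Algebra.IsPushout.cancelBaseChange R R' A B K
  let eX := Algebra.IsPushout.cancelBaseChange R R' A B X
  have comm : ∀ z : R' ⊗[R] K, f.lTensor B (eK.symm z) = eX.symm ((f.restrictScalars R).lTensor R' z) := fun z => by
    induction z using TensorProduct.induction_on with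
    | zero => simp
    | tmul s m => simp [eK, eX, Algebra.IsPushout.cancelBaseChange, Algebra.IsPushout.cancelBaseChangeAux_symm_tmul]
    | add x y hx hy => simp only [map_add, hx, hy]
  have h2 : ⇑(f.lTensor B) = ⇑eX.symm ∘ ⇑((f.restrictScalars R).lTensor R') ∘ ⇑eK := funext fun z => by
    simpa using comm (eK z)
  rw [h2]
  exact eX.symm.injective.comp (h1.comp eK.injective)

variable {ι : Type} {c : ComplexShape ι} (P : HomologicalComplex (ModuleCat.{u} A) c) (i : ι)

/-- The comparison is bijective when kernel and image of the differential stay submodules. -/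
theorem bijective_kerCmp_of_injective (M : Type u) [AddCommGroup M] [Module A M]
    (h₁ : Function.Injective ((LinearMap.ker (FlatCx.dBar P i)).subtype.rTensor M))
    (h₂ : Function.Injective ((LinearMap.range (FlatCx.dBar P i)).subtype.rTensor M)) :
    Function.Bijective (FlatCx.kerCmp P i M) := by
  set δ := FlatCx.dBar P i
  have hex : Function.Exact (LinearMap.ker δ).subtype δ.rangeRestrict :=
    fun x => by simp [Subtype.ext_iff]
  refine ⟨fun a b hab => h₁ (congrArg Subtype.val hab), ?_⟩
  rintro ⟨x, hx⟩
  have h0 : δ.rangeRestrict.rTensor M x = 0 := h₂ (by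
    rw [← LinearMap.rTensor_comp_apply, map_zero]; exact hx)
  obtain ⟨z, rfl⟩ := (rTensor_exact M hex δ.surjective_rangeRestrict x).1 h0
  exact ⟨z, rfl⟩

variable [∀ k, Module R (P.X k)] [∀ k, IsScalarTower R A (P.X k)]

/-- **Base change along a pushout of `R`** for a complex whose outgoing cokernel is flat over `R`. -/
theorem bijective_cmpT_pushout [Algebra.IsPushout R R' A B] [∀ k, Module.Flat R (P.X k)]
    (hQ : Module.Flat R (P.X (c.next i) ⧸ LinearMap.range (P.d i (c.next i)).hom)) :
    Function.Bijective (BCCoh.cmpT P i (ModuleCat.of A B)) := by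
  refine (BCCoh.bijective_cmpT_iff P i (ModuleCat.of A B)).2 ?_
  set δ := FlatCx.dBar P i
  haveI hQ' : Module.Flat R (P.X (c.next i) ⧸ LinearMap.range δ) :=
    haveI := hQ
    Module.Flat.of_linearEquiv ((Submodule.quotEquivOfEq _ _ (FlatCx.range_dBar P i)).restrictScalars R)
  haveI : Module.Flat R (P.X (c.next i) ⧸ (LinearMap.range δ).restrictScalars R) :=
    Module.Flat.of_linearEquiv ((Submodule.Quotient.restrictScalarsEquiv R (LinearMap.range δ)).restrictScalars R)
  haveI : Module.Flat R (LinearMap.range δ) :=
    haveI := FlatCx.flat_of_flat_quotient ((LinearMap.range δ).restrictScalars R)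
    Module.Flat.of_linearEquiv (LinearEquiv.refl R ((LinearMap.range δ).restrictScalars R) :
      LinearMap.range δ ≃ₗ[R] (LinearMap.range δ).restrictScalars R)
  refine bijective_kerCmp_of_injective P i B ?_ ?_
  · exact rTensor_injective_pushout (R := R) (R' := R') (g := δ.rangeRestrict) Subtype.val_injective
      δ.surjective_rangeRestrict (fun x => by simp [Subtype.ext_iff]; rfl)
  · exact rTensor_injective_pushout (R := R) (R' := R') (g := (LinearMap.range δ).mkQ) Subtype.val_injective
      (Submodule.mkQ_surjective _) (LinearMap.exact_subtype_mkQ _)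


end Pushout

variable {R : Type u} [CommRing R] (K : CochainComplex (ModuleCat.{u} R) ℕ) [∀ n, Module.Flat R (K.X n)]

/-- Flat homology and universal vanishing in high degrees make the cokernels flat. -/
theorem flat_coker_nat (b : ℕ) (high : ∀ (M : ModuleCat.{u} R) (n : ℕ), b ≤ n → IsZero (CohIII.T K n M))
    (hH : ∀ n, Module.Flat R (K.homology n)) :
    ∀ n : ℕ, Module.Flat R (K.X n ⧸ LinearMap.range (K.d ((ComplexShape.up ℕ).prev n) n).hom) := by
  suffices h : ∀ m n : ℕ, b ≤ n + m →
      Module.Flat R (K.X n ⧸ LinearMap.range (K.d ((ComplexShape.up ℕ).prev n) n).hom) from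
    fun n => h b n (Nat.le_add_left _ _)
  intro m
  induction m with
  | zero =>
    intro n hn
    exact (FlatCx.preservesMono_iff K n).1 ⟨fun {M N} g _ => ⟨fun a c _ => (high M n hn).eq_of_tgt a c⟩⟩
  | succ m ih =>
    intro n hn
    have h1 : Module.Flat R (K.X ((ComplexShape.up ℕ).next n) ⧸
        LinearMap.range (K.d n ((ComplexShape.up ℕ).next n)).hom) := by
      have := ih (n + 1) (by omega)
      rw [(ComplexShape.up ℕ).prev_eq' (show (ComplexShape.up ℕ).Rel n (n + 1) by simp)] at this
      rw [(ComplexShape.up ℕ).next_eq' (show (ComplexShape.up ℕ).Rel n (n + 1) by simp)]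
      exact this
    haveI : Module.Flat R (LinearMap.range (FlatCx.dBar K n)) := by
      haveI := h1
      rw [FlatCx.range_dBar]
      exact FlatCx.flat_of_flat_quotient _
    haveI : Module.Flat R (LinearMap.ker (FlatCx.dBar K n)) := by
      haveI := hH n
      exact Module.Flat.of_linearEquiv
        ((FlatCx.TUnitKerEquiv K n).symm ≪≫ₗ (FlatCx.TUnitIso K n).toLinearEquiv)
    exact FlatCx.flat_of_flat_ker_range (FlatCx.dBar K n)

end GrothLib.BCCrit
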