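import Groth.Agent.Lib.Fitting.Local
import Groth.Agent.Lib.Fitting.Support
import Mathlib.RingTheory.Spectrum.Prime.FreeLocus

/-! # The stratum on which a finitely presented module is locally free of given rank -/

set_option autoImplicit false
set_option linter.style.haveILetI false
set_option maxHeartbeats 1000000
universe u

noncomputable section

open TensorProduct

namespace GrothLib.BCCrit

/-- Free near the point, with fibre of dimension `c`. -/
def RankFree (R : Type u) [CommRing R] (M : Type u) [AddCommGroup M] [Module R M] (c : ℕ)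
    (x : PrimeSpectrum R) : Prop :=
  x ∈ Module.freeLocus R M ∧ Module.finrank x.asIdeal.ResidueField (x.asIdeal.ResidueField ⊗[R] M) = c

theorem finrank_fibre_eq_rankAtStalk {R : Type u} [CommRing R] (M : Type u) [AddCommGroup M] [Module R M]
    (x : PrimeSpectrum R) (h : x ∈ Module.freeLocus R M) :
    Module.finrank x.asIdeal.ResidueField (x.asIdeal.ResidueField ⊗[R] M) = Module.rankAtStalk M x := by
  let Rx := Localization.AtPrime x.asIdeal
  haveI : Module.Free Rx (Rx ⊗[R] M) := (Module.mem_freeLocus_iff_tensor x Rx).1 h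
  rw [Module.rankAtStalk_eq_finrank_tensorProduct,
    ← (TensorProduct.AlgebraTensorModule.cancelBaseChange R Rx x.asIdeal.ResidueField x.asIdeal.ResidueField M).finrank_eq]
  exact Module.finrank_baseChange

theorem forall_rankFree_iff {R : Type u} [CommRing R] (M : Type u) [AddCommGroup M] [Module R M]
    [Module.FinitePresentation R M] (c : ℕ) :
    (∀ x, RankFree R M c x) ↔ (∀ k, k < c → Fitt.ideal R M k = ⊥) ∧ Fitt.ideal R M c = ⊤ := by
  constructor
  · intro h
    have hnear : ∀ (p : Ideal R) [p.IsPrime], ∃ f : R, f ∉ p ∧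
        Module.Free (Localization.Away f) (LocalizedModule (Submonoid.powers f) M) ∧
          Module.finrank (Localization.Away f) (LocalizedModule (Submonoid.powers f) M) = c := fun p hp => by
      let x : PrimeSpectrum R := ⟨p, hp⟩
      have hx : Module.Free (Localization.AtPrime p) (LocalizedModule p.primeCompl M) := (h x).1
      obtain ⟨f, hf, hf', hf''⟩ := Module.FinitePresentation.exists_free_localizedModule_powers
        p.primeCompl (LocalizedModule.mkLinearMap p.primeCompl M) (Localization.AtPrime p)
      exact ⟨f, hf, hf', hf''.trans ((finrank_fibre_eq_rankAtStalk M x (h x).1).symm.trans (h x).2)⟩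
    exact ⟨fun k hk => by rw [Fitting.ideal_eq_of_free_near c hnear k, if_neg (by omega)],
      by rw [Fitting.ideal_eq_of_free_near c hnear c, if_pos le_rfl]⟩
  · rintro ⟨hlow, htop⟩ x
    obtain ⟨f, hf, hfree, hrank⟩ := Fitting.free_near_of_ideal_eq c hlow htop x.asIdeal
    refine ⟨(Module.basicOpen_subset_freeLocus_iff (f := f)).2 ?_ hf, le_antisymm ?_ ?_⟩
    · haveI := hfree
      infer_instance
    · exact (Fitting.not_le_iff_finrank_fiber_le c x.asIdeal).1
        (by rw [htop]; exact fun hh => x.isPrime.ne_top (top_le_iff.1 hh))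
    · by_contra hlt
      have h1 := (Fitting.not_le_iff_finrank_fiber_le (M := M) (c - 1) x.asIdeal).2 (by omega)
      rw [hlow (c - 1) (by omega)] at h1
      exact h1 bot_le

/-- **The stratum of rank `c` is cut out by two finitely generated ideals.** -/
theorem exists_ideals_rankFree (A : Type u) [CommRing A] (M : Type u) [AddCommGroup M] [Module A M]
    [Module.FinitePresentation A M] (c : ℕ) :
    ∃ I J : Ideal A, I.FG ∧ J.FG ∧
      (∀ x : PrimeSpectrum A,
        (¬ J ≤ x.asIdeal ↔ Module.finrank x.asIdeal.ResidueField (x.asIdeal.ResidueField ⊗[A] M) ≤ c) ∧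
          (I ≤ x.asIdeal ↔ c ≤ Module.finrank x.asIdeal.ResidueField (x.asIdeal.ResidueField ⊗[A] M))) ∧
      ∀ (B : Type u) [CommRing B] [Algebra A B],
        (∀ x, RankFree B (B ⊗[A] M) c x) ↔ I.map (algebraMap A B) = ⊥ ∧ J.map (algebraMap A B) = ⊤ := by
  refine ⟨if c = 0 then ⊥ else Fitt.ideal A M (c - 1), Fitt.ideal A M c, ?_, Fitting.ideal_fg c,
    fun x => ⟨Fitting.not_le_iff_finrank_fiber_le c x.asIdeal, ?_⟩, fun B _ _ => ?_⟩
  · split_ifs
    · exact Submodule.fg_bot
    · exact Fitting.ideal_fg _
  · split_ifs with hc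
    · exact iff_of_true bot_le (by omega)
    · rw [← not_iff_not, Fitting.not_le_iff_finrank_fiber_le (c - 1) x.asIdeal]
      omega
  · haveI : Module.FinitePresentation B (B ⊗[A] M) := inferInstance
    rw [forall_rankFree_iff]
    refine and_congr ⟨fun h => ?_, fun h k hk => ?_⟩ (by rw [← Fitting.ideal_baseChange B c])
    · split_ifs with hc
      · exact Ideal.map_bot
      · rw [← Fitting.ideal_baseChange B (c - 1)]
        exact h (c - 1) (by omega)
    · rw [if_neg (by omega), ← Fitting.ideal_baseChange B (c - 1)] at h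
      exact eq_bot_iff.2 ((Fitting.ideal_mono (R := B) (M := B ⊗[A] M) (show k ≤ c - 1 by omega)).trans h.le)

end GrothLib.BCCrit
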