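import Groth.Agent.Lib.BCCrit.Good
import Groth.Agent.Lib.BCCoh.Core

/-! # The functor of a model is the functor of its Cech complex; testing at residue fields -/

set_option autoImplicit false
set_option linter.style.haveILetI false
set_option backward.isDefEq.respectTransparency false
set_option maxHeartbeats 1000000
universe u

noncomputable section

open CategoryTheory CategoryTheory.Limits AlgebraicGeometry TensorProduct MonoidalCategory

namespace GrothLib.BCCrit

open GrothLib.BCCoh

variable {A : Type u} [CommRing A] {X : Scheme.{u}} {f : X ⟶ Spec (CommRingCat.of A)} {F : X.Modules}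

/-- `T` of the extension of the Cech complex is `T` of the Cech complex. -/
def cxExtendTFun {ι : Type u} (U : ι → X.Opens) (p : ℕ) :
    CohIII.TFun (cxZ f U F) (p : ℤ) ≅ CohIII.TFun (cx f U F) p :=
  NatIso.ofComponents (fun M =>
    HomologicalComplex.homologyMapIso
        (mapExtendIso ComplexShape.embeddingUpNat (tensorRight M) (cx f U F)) (p : ℤ) ≪≫
      (((tensorRight M).mapHomologicalComplex (ComplexShape.up ℕ)).obj (cx f U F)).extendHomologyIso
        ComplexShape.embeddingUpNat (show ComplexShape.embeddingUpNat.f p = (p : ℤ) from rfl))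
    fun {M M'} φ => by
      show HomologicalComplex.homologyMap (CohIII.tensorMap (cxZ f U F) φ) (p : ℤ) ≫ _ =
        _ ≫ HomologicalComplex.homologyMap (CohIII.tensorMap (cx f U F) φ) p
      simp only [Iso.trans_hom, HomologicalComplex.homologyMapIso_hom, Category.assoc]
      rw [← HomologicalComplex.homologyMap_comp_assoc,
        mapExtendIso_natural ComplexShape.embeddingUpNat (tensorRight M) (cx f U F)
          ((tensoringRight (ModuleCat.{u} A)).map φ),
        HomologicalComplex.homologyMap_comp_assoc, HomologicalComplex.extendHomologyIso_hom_naturality]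

/-- `T` of a model is `T` of its Cech complex. -/
def theta (m : Model f F) (p : ℕ) : CohIII.TFun m.L (p : ℤ) ≅ CohIII.TFun (cx f m.U F) p :=
  m.toCech (p : ℤ) ≪≫ cxExtendTFun m.U p

variable (L : CochainComplex (ModuleCat.{u} A) ℤ)

/-- The comparison is natural in the module. -/
theorem cmpT_natural (i : ℤ) {M N : ModuleCat.{u} A} (r : M ⟶ N)
    (z : CohIII.T L i (ModuleCat.of A A) ⊗[A] M) :
    ((CohIII.TFun L i).map r).hom (cmpT L i M z) = cmpT L i N (r.hom.lTensor _ z) := by
  induction z using TensorProduct.induction_on with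
  | zero => exact ((congrArg _ (map_zero _)).trans (map_zero _)).trans ((congrArg _ (map_zero _)).trans (map_zero _)).symm
  | add p q hp hq =>
    exact ((congrArg _ (map_add _ p q)).trans (map_add _ _ _)).trans ((congrArg₂ (· + ·) hp hq).trans
      ((congrArg _ (map_add _ p q)).trans (map_add _ _ _)).symm)
  | tmul t m =>
    rw [LinearMap.lTensor_tmul, cmpT_tmul, cmpT_tmul]
    have e : smulTo M m ≫ r = smulTo N (r.hom m) :=
      ModuleCat.hom_ext (LinearMap.ext fun a => by simp [smulTo])
    rw [← e, Functor.map_comp]
    rfl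

/-- Surjectivity passes to retracts. -/
theorem surjective_cmpT_of_retract (i : ℤ) {M N : ModuleCat.{u} A} (j : N ⟶ M) (r : M ⟶ N)
    (h : j ≫ r = 𝟙 N) (hM : Function.Surjective (cmpT L i M)) : Function.Surjective (cmpT L i N) := by
  intro y
  obtain ⟨z, hz⟩ := hM (((CohIII.TFun L i).map j).hom y)
  refine ⟨r.hom.lTensor _ z, ?_⟩
  rw [← cmpT_natural, hz]
  have h1 : (CohIII.TFun L i).map j ≫ (CohIII.TFun L i).map r = 𝟙 _ := by
    rw [← Functor.map_comp, h, CategoryTheory.Functor.map_id]
  exact ConcreteCategory.congr_hom h1 y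

/-- Freeness of the outgoing cokernel is tested on any ring containing the residue field. -/
theorem good_iff_surjective_of_residue (hL : ∀ k, Module.Finite A (L.X k) ∧ Module.Free A (L.X k)) (i : ℤ)
    (x : PrimeSpectrum A) (K : Type u) [CommRing K] [Nontrivial K] [Algebra A K]
    (hu : ∀ a ∉ x.asIdeal, IsUnit (algebraMap A K a)) (hz : ∀ a ∈ x.asIdeal, algebraMap A K a = 0) :
    Good L i x ↔ Function.Surjective (cmpT L i (ModuleCat.of A K)) := by
  constructor
  · intro h
    obtain ⟨g, hg, hb⟩ := exists_bijective_of_good L hL i x h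
    exact (hb K (hu g hg)).2
  · intro h
    let κ := x.asIdeal.ResidueField
    let ρ : κ →+* K := Ideal.ResidueField.lift x.asIdeal (algebraMap A K)
      (fun a ha => RingHom.mem_ker.2 (hz a ha)) (fun a ha => hu a ha)
    letI : Algebra κ K := ρ.toAlgebra
    haveI : IsScalarTower A κ K := IsScalarTower.of_algebraMap_eq fun a =>
      (Ideal.ResidueField.lift_algebraMap x.asIdeal (algebraMap A K) _ _ a).symm
    obtain ⟨r, hr⟩ := (Algebra.linearMap κ K).exists_leftInverse_of_injective
      (LinearMap.ker_eq_bot.2 (FaithfulSMul.algebraMap_injective κ K))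
    refine good_of_surjective L hL i x (surjective_cmpT_of_retract L i
      (ModuleCat.ofHom ((Algebra.linearMap κ K).restrictScalars A)) (ModuleCat.ofHom (r.restrictScalars A)) ?_ h)
    exact ModuleCat.hom_ext (LinearMap.ext fun a => LinearMap.congr_fun hr a)

end GrothLib.BCCrit
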